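import Cfsg.Agent.Lib.SuzThree.Elem

/-! A permutation preserving the graph and commuting with the span lies in it. -/

set_option autoImplicit false
set_option maxRecDepth 100000
set_option Elab.async false

namespace Cfsg.Agent.SuzThree

open Cfsg.Agent.SuzOut (evW okWord_mem wordVal act_word grp_aut keyP_inj keyP base sigIf)
open Cfsg.Agent.RigidGraph (allB_spec autG fixList mem_fixList rounds_fix orbit_le bit eqB_iff Adj)
open Cfsg.Agent.RigidGraph.Suz (suzGroup graph graph_ok)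

attribute [local irreducible] wordVal SuzOut.lets RigidGraph.Suz.nodes RigidGraph.Suz.graph RigidGraph.Suz.outer
  RigidGraph.permOf orbZero orbOne orbTwo lastRound wit

/-- the permutation of a code -/
noncomputable def Fp (k : ℕ) : Equiv.Perm (Fin 1782) := (F k : Equiv.Perm (Fin 1782))

theorem Fp_val (k : ℕ) (x : Fin 1782) : (Fp k x : ℕ) = evW (wF k) x := by
  rw [Fp, ← val_wF]
  exact act_word (wF k) (okWord_mem (okWord_wF k)) x

theorem Fp_aut (k : ℕ) : Fp k ∈ autG 1782 graph := grp_aut (F k).2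

theorem Fp_comm (j k : ℕ) : Fp j * Fp k = Fp k * Fp j := by
  rw [Fp, Fp, ← Subgroup.coe_mul, ← Subgroup.coe_mul, A0_comm (mem_A0 j) (mem_A0 k)]

/-- the first element -/
noncomputable def W0 : Equiv.Perm (Fin 1782) := (v 0 : Equiv.Perm (Fin 1782))

theorem W0_val (x : Fin 1782) : (W0 x : ℕ) = evW (wBi 0) x :=
  act_word (wBi 0) (okWord_mem (v_ok (i := 0) (by norm_num)).1) x

theorem W0_eq : W0 = Fp 1 := by rw [W0, Fp, show (1 : ℕ) = 3 ^ 0 from rfl, F_v (by norm_num)]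

theorem orb_spec {o : List (ℕ × ℕ)} {b : ℕ} (h : orbOK o b = true) {p : ℕ × ℕ} (hp : p ∈ o) :
    p.1 < 1782 ∧ p.2 < 243 ∧ evW (wF p.2) b = p.1 := by
  have := List.all_eq_true.1 h p hp
  simp only [Bool.and_eq_true, Nat.blt_eq, Nat.beq_eq] at this
  exact ⟨this.1.1, this.1.2, this.2⟩

theorem inPts_iff {o : List (ℕ × ℕ)} {q : ℕ} : inPts o q = true ↔ q ∈ o.map fun p => p.1 := by
  simp only [inPts, List.contains_iff_mem]

theorem orb_all : orbOK orbZero 0 = true ∧ orbOK orbOne 1 = true ∧ orbOK orbTwo pTwo = true := by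
  have h := orbs_ok
  simp only [Bool.and_eq_true] at h
  exact ⟨h.1.1, h.1.2, h.2⟩

variable {c : Equiv.Perm (Fin 1782)}

/-- a point fixed by a commuting permutation has its orbit fixed -/
theorem fix_orbit (hc : ∀ k, c * Fp k = Fp k * c) {o : List (ℕ × ℕ)} {b : Fin 1782} (h : orbOK o b = true)
    (hb : c b = b) (x : Fin 1782) (hx : (x : ℕ) ∈ o.map fun p => p.1) : c x = x := by
  obtain ⟨p, hp, e⟩ := List.mem_map.1 hx
  obtain ⟨-, -, hev⟩ := orb_spec h hp
  have hxk : x = Fp p.2 b := Fin.ext (by rw [Fp_val, hev, e])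
  rw [hxk, ← Equiv.Perm.mul_apply, hc, Equiv.Perm.mul_apply, hb]

theorem comm_mul (hc : ∀ k, c * Fp k = Fp k * c) (a : ℕ) (k : ℕ) :
    (Fp a)⁻¹ * c * Fp k = Fp k * ((Fp a)⁻¹ * c) := by
  have h : Commute ((Fp a)⁻¹ * c) (Fp k) :=
    ((show Commute (Fp a) (Fp k) from Fp_comm a k).inv_left).mul_left (hc k)
  exact h.eq

theorem mem_span (hcA : c ∈ autG 1782 graph) (hc : ∀ k, c * Fp k = Fp k * c) :
    ∃ x ∈ A0, c = (x : Equiv.Perm (Fin 1782)) := by
  obtain ⟨hO0, hO1, hO2⟩ := orb_all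
  have hf := fixCover_ok
  simp only [fixCoverOK, Bool.and_eq_true, Nat.beq_eq, Bool.not_eq_true'] at hf
  obtain ⟨⟨⟨⟨hW0, hW1⟩, h1n0⟩, h0n1⟩, hcov⟩ := hf
  have hfix : ∀ {d : Equiv.Perm (Fin 1782)}, (∀ k, d * Fp k = Fp k * d) → ∀ x : Fin 1782,
      evW (wBi 0) x = x → inPts orbZero (d x) = true ∨ inPts orbOne (d x) = true := by
    intro d hd x hx
    have e : W0 (d x) = d x := by
      rw [← Equiv.Perm.mul_apply, W0_eq, ← hd, Equiv.Perm.mul_apply, ← W0_eq,
        show W0 x = x from Fin.ext ((W0_val x).trans hx)]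
    have h := allB_spec hcov (d x).2
    rw [Bool.or_eq_true, Bool.or_eq_true, Bool.not_eq_true'] at h
    have e' : Nat.beq (evW (wBi 0) (d x : ℕ)) (d x : ℕ) = true :=
      Nat.beq_eq.mpr ((W0_val _).symm.trans (congrArg Fin.val e))
    rw [e'] at h
    rcases h with (h | h) | h
    · exact Bool.noConfusion h
    · exact Or.inl h
    · exact Or.inr h
  obtain ⟨a, c0, hc0, hca⟩ : ∃ a, ∃ d : Equiv.Perm (Fin 1782), d 0 = 0 ∧ c = Fp a * d := by
    rcases hfix hc 0 hW0 with h | h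
    · obtain ⟨p, hp, e⟩ := List.mem_map.1 (inPts_iff.1 h)
      obtain ⟨-, -, hev⟩ := orb_spec hO0 hp
      refine ⟨p.2, (Fp p.2)⁻¹ * c, ?_, by group⟩
      rw [Equiv.Perm.mul_apply, Equiv.Perm.inv_eq_iff_eq]
      exact Fin.ext (by rw [Fp_val, ← e, ← hev]; rfl)
    · exfalso
      obtain ⟨p, hp, e⟩ := List.mem_map.1 (inPts_iff.1 h)
      obtain ⟨-, -, hev⟩ := orb_spec hO1 hp
      set d := (Fp p.2)⁻¹ * c with hd
      have hdc : ∀ k, d * Fp k = Fp k * d := comm_mul hc p.2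
      have hdA : d ∈ autG 1782 graph := mul_mem (inv_mem (Fp_aut _)) hcA
      have hd0 : d 0 = 1 := by
        rw [hd, Equiv.Perm.mul_apply, Equiv.Perm.inv_eq_iff_eq]
        exact Fin.ext (by rw [Fp_val, ← e, ← hev]; rfl)
      rcases hfix hdc 1 hW1 with h1 | h1
      · obtain ⟨r, hr, er⟩ := List.mem_map.1 (inPts_iff.1 h1)
        obtain ⟨-, hr2, hrev⟩ := orb_spec hO0 hr
        have hd1 : d 1 = Fp r.2 0 := Fin.ext (by rw [Fp_val, ← er, ← hrev]; rfl)
        have hw := allB_spec wit_ok hr2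
        simp only [Bool.and_eq_true, Nat.blt_eq, Bool.not_eq_true'] at hw
        set k := wit.getD r.2 0
        have hadj := hdA 0 (Fp k 1)
        rw [hd0, show d (Fp k 1) = Fp k (Fp r.2 0) by
          rw [← Equiv.Perm.mul_apply, hdc, Equiv.Perm.mul_apply, hd1]] at hadj
        have e1 : (Fp k (Fp r.2 0) : ℕ) = evW (wF k ++ wF r.2) 0 := by
          rw [Fp_val, Fp_val]; simp [evW, List.foldr_append]
        refine absurd hw.2 ?_
        rw [Bool.not_eq_false, eqB_iff, Bool.eq_iff_iff]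
        unfold Adj at hadj
        rw [e1, Fp_val] at hadj
        exact hadj.symm
      · obtain ⟨r, hr, er⟩ := List.mem_map.1 (inPts_iff.1 h1)
        obtain ⟨-, -, hrev⟩ := orb_spec hO1 hr
        have hd1 : d 1 = d (Fp r.2 0) := by
          refine Eq.trans ?_ (Equiv.ext_iff.1 (hdc r.2) 0).symm
          show d 1 = Fp r.2 (d 0)
          rw [hd0]
          exact Fin.ext (by rw [Fp_val, ← er, ← hrev]; rfl)
        have h1e := congrArg Fin.val (d.injective hd1)
        have hcv := allB_spec coverZero_ok (show cod (dig r.2 0) (dig r.2 1) (dig r.2 2) (dig r.2 3) (dig r.2 4) < 243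
          from cod_lt _ _ _ _ _)
        have hF : Fp (cod (dig r.2 0) (dig r.2 1) (dig r.2 2) (dig r.2 3) (dig r.2 4)) = Fp r.2 := by
          rw [Fp, Fp, F_cod]; rfl
        have e0 : evW (wF (cod (dig r.2 0) (dig r.2 1) (dig r.2 2) (dig r.2 3) (dig r.2 4))) 0 = 1 :=
          ((Fp_val _ (0 : Fin 1782)).symm.trans (by rw [hF, ← h1e]) :)
        rw [e0] at hcv
        exact Bool.noConfusion (h1n0.symm.trans hcv)
  have hd0c : ∀ k, c0 * Fp k = Fp k * c0 := by
    have e : c0 = (Fp a)⁻¹ * c := by rw [hca]; group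
    rw [e]; exact comm_mul hc a
  have hd0A : c0 ∈ autG 1782 graph := by
    rw [show c0 = (Fp a)⁻¹ * c by rw [hca]; group]; exact mul_mem (inv_mem (Fp_aut _)) hcA
  -- the first two orbits
  have hlt0 : ∀ b ∈ orbZero.map (fun p => p.1), b < 1782 := fun b hb => by
    obtain ⟨p, hp, rfl⟩ := List.mem_map.1 hb; exact (orb_spec hO0 hp).1
  have hlt1 : ∀ b ∈ ptsOne, b < 1782 := fun b hb => by
    rcases List.mem_append.1 hb with hb | hb
    · exact hlt0 b hb
    · obtain ⟨p, hp, rfl⟩ := List.mem_map.1 hb; exact (orb_spec hO1 hp).1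
  have hr1 := (rounds_fix graph_ok _ _ roundOne_ok hlt0).2
  simp only [List.flatten_cons, List.flatten_nil, List.append_nil] at hr1
  have hfix1 : ∀ {d : Equiv.Perm (Fin 1782)}, d ∈ autG 1782 graph → (∀ k, d * Fp k = Fp k * d) → d 0 = 0 →
      d ∈ fixList 1782 ptsOne := fun {d} hdA hd h0 =>
    hr1 ⟨hdA, mem_fixList.2 (fix_orbit hd hO0 h0)⟩
  have h2 := classTwo_ok
  simp only [classTwoOK, Bool.and_eq_true, Nat.blt_eq, Bool.not_eq_true', Nat.beq_eq] at h2
  obtain ⟨⟨⟨hp2, hp2n⟩, hcls⟩, hmove⟩ := h2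
  have hp2n' : pTwo ∉ ptsOne := fun h => by
    rw [List.contains_iff_mem.2 h] at hp2n; exact Bool.noConfusion hp2n
  set P : Fin 1782 := ⟨pTwo, hp2⟩
  set K := autG 1782 graph ⊓ fixList 1782 ptsOne
  have hW0K : W0 ∈ K := ⟨grp_aut (v 0).2, hfix1 (grp_aut (v 0).2)
    (fun k => by rw [W0_eq, Fp_comm]) (Fin.ext ((W0_val 0).trans hW0))⟩
  have hc0K : c0 ∈ K := ⟨hd0A, hfix1 hd0A hd0c hc0⟩
  have horb : (MulAction.orbit ↥K P).ncard ≤ 3 := hcls ▸ orbit_le graph_ok hlt1 (fs := []) rfl hp2 hp2n'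
  have hW3 : W0 ^ 3 = 1 := by
    rw [W0, ← SubgroupClass.coe_pow, (v_ok (i := 0) (by norm_num)).2, Subgroup.coe_one]
  have hPne : W0 P ≠ P := fun e => by
    rw [Nat.beq_eq.mpr ((W0_val P).symm.trans (congrArg Fin.val e))] at hmove
    exact Bool.noConfusion hmove
  have hP2 : W0 (W0 P) ≠ P := fun e => hPne (by
    have e3 : W0 (W0 (W0 P)) = P := by
      rw [← Equiv.Perm.mul_apply, ← Equiv.Perm.mul_apply, ← pow_two, ← pow_succ, hW3, Equiv.Perm.one_apply]
    rw [e] at e3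
    exact e3)
  have hP12 : W0 P ≠ W0 (W0 P) := fun e => hPne (W0.injective e).symm
  have hsub : ({P, W0 P, W0 (W0 P)} : Set (Fin 1782)) ⊆ MulAction.orbit ↥K P := by
    rintro x (rfl | rfl | rfl)
    · exact MulAction.mem_orbit_self _
    · exact ⟨⟨W0, hW0K⟩, rfl⟩
    · exact ⟨⟨W0 * W0, mul_mem hW0K hW0K⟩, rfl⟩
  have h3 : ({P, W0 P, W0 (W0 P)} : Set (Fin 1782)).ncard = 3 := by
    rw [Set.ncard_eq_three]
    exact ⟨_, _, _, hPne.symm, hP2.symm, hP12, rfl⟩
  have heq := Set.eq_of_subset_of_ncard_le hsub (h3 ▸ horb)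
  have hcP : c0 P ∈ ({P, W0 P, W0 (W0 P)} : Set (Fin 1782)) := heq ▸ ⟨⟨c0, hc0K⟩, rfl⟩
  obtain ⟨m, hm⟩ : ∃ m : ℕ, c0 P = (W0 ^ m) P := by
    rcases hcP with h | h | h
    · exact ⟨0, h⟩
    · exact ⟨1, by rw [pow_one]; exact h⟩
    · exact ⟨2, by rw [pow_two]; exact h⟩
  set c1 := (W0 ^ m)⁻¹ * c0 with hc1
  have hc1c : ∀ k, c1 * Fp k = Fp k * c1 := fun k =>
    ((((show Commute W0 (Fp k) by rw [W0_eq]; exact Fp_comm 1 k).pow_left m).inv_left).mul_left
      (show Commute c0 (Fp k) from hd0c k)).eq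
  have hc1K : c1 ∈ K := mul_mem (inv_mem (pow_mem hW0K m)) hc0K
  have hc1P : c1 P = P := by rw [hc1, Equiv.Perm.mul_apply, hm, Equiv.Perm.inv_eq_iff_eq]
  have hlt2 : ∀ b ∈ ptsTwo, b < 1782 := fun b hb => by
    rcases List.mem_append.1 hb with hb | hb
    · exact hlt1 b hb
    · obtain ⟨p, hp, rfl⟩ := List.mem_map.1 hb; exact (orb_spec hO2 hp).1
  have hr2 := roundTwo_ok
  simp only [roundTwoOK, Bool.and_eq_true, List.all_eq_true, List.contains_iff_mem] at hr2
  have hc1f : c1 ∈ fixList 1782 ptsTwo := mem_fixList.2 fun x hx => by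
    rcases List.mem_append.1 hx with hx | hx
    · exact mem_fixList.1 hc1K.2 x hx
    · exact fix_orbit hc1c (b := P) hO2 hc1P x hx
  have hr3 := (rounds_fix graph_ok _ _ hr2.1 hlt2).2 ⟨hc1K.1, hc1f⟩
  simp only [List.flatten_cons, List.flatten_nil, List.append_nil] at hr3
  have h1 : c1 = 1 := by
    refine keyP_inj hc1K.1 (one_mem _) (List.map_congr_left fun b hb => ?_)
    rw [dif_pos (SuzOut.base_lt hb), dif_pos (SuzOut.base_lt hb),
      mem_fixList.1 hr3 ⟨b, SuzOut.base_lt hb⟩ (hr2.2 b hb), Equiv.Perm.one_apply]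
  refine ⟨F a * v 0 ^ m, mul_mem (mem_A0 a) (pow_mem (by rw [← F_v (i := 0) (by norm_num)]; exact mem_A0 _) m), ?_⟩
  rw [hca, show c0 = W0 ^ m by rw [← mul_one (W0 ^ m), ← h1, hc1]; group, Subgroup.coe_mul, SubgroupClass.coe_pow]
  rfl

/-- Nothing in the group inverts the span, and the span is its own centraliser. -/
theorem not_inverting (n : ↥suzGroup) (h : ∀ i < 5, n * v i * n⁻¹ = (v i)⁻¹) : False := by
  have hs := sigma_ok
  simp only [sigmaOK, Bool.and_eq_true, List.all_eq_true, List.mem_range, beq_iff_eq] at hs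
  obtain ⟨hw, hk⟩ := hs
  set R : ℕ × ℕ × ℕ × List ℕ := (0, 0, 1, wSg)
  set σ := SuzOut.rowPerm R
  have hw8 := okWord_mem hw
  have hσm : σ ∈ autG 1782 graph := SuzOut.rowPerm_mem R
  have hσ : ∀ i < 5, σ * (v i : Equiv.Perm (Fin 1782)) = ((v i)⁻¹ : ↥suzGroup) * σ := by
    intro i hi
    have hv2 : (v i)⁻¹ = wordVal (powW (wBi i) 2) := by
      rw [val_powW, inv_eq_iff_mul_eq_one]
      exact (pow_succ' (v i) 2).symm.trans (v_ok hi).2
    rw [hv2]
    refine keyP_inj (mul_mem hσm (grp_aut (v i).2)) (mul_mem (grp_aut (Subtype.prop _)) hσm)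
      (List.map_congr_left fun b hb => ?_)
    rw [dif_pos (SuzOut.base_lt hb), dif_pos (SuzOut.base_lt hb), Equiv.Perm.mul_apply, Equiv.Perm.mul_apply,
      SuzOut.rowPerm_val hw8, v, act_word _ (okWord_mem (v_ok hi).1),
      act_word _ (okWord_mem (okWord_powW (v_ok hi).1 2)), SuzOut.rowPerm_val hw8]
    exact List.map_inj_left.1 (hk i hi) b hb
  set c : Equiv.Perm (Fin 1782) := σ⁻¹ * (n : Equiv.Perm (Fin 1782))
  have hcv : ∀ i < 5, Commute c (v i : Equiv.Perm (Fin 1782)) := by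
    intro i hi
    have h1 : (n : Equiv.Perm (Fin 1782)) * v i = ((v i)⁻¹ : ↥suzGroup) * n := by
      rw [← Subgroup.coe_mul, ← Subgroup.coe_mul, ← h i hi, inv_mul_cancel_right]
    have h2 : σ⁻¹ * (((v i)⁻¹ : ↥suzGroup) : Equiv.Perm (Fin 1782)) = (v i : Equiv.Perm (Fin 1782)) * σ⁻¹ := by
      rw [eq_mul_inv_iff_mul_eq, mul_assoc, ← hσ i hi, inv_mul_cancel_left]
    show _ = _
    rw [mul_assoc, h1, ← mul_assoc, h2, mul_assoc]
  have hc : ∀ k, c * Fp k = Fp k * c := fun k => by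
    simp only [Fp, F, prodV, Subgroup.coe_mul, SubgroupClass.coe_pow]
    exact (((hcv 0 (by norm_num)).pow_right _).mul_right (((hcv 1 (by norm_num)).pow_right _).mul_right
      (((hcv 2 (by norm_num)).pow_right _).mul_right (((hcv 3 (by norm_num)).pow_right _).mul_right
        ((hcv 4 (by norm_num)).pow_right _))))).eq
  obtain ⟨x, -, hx⟩ := mem_span (mul_mem (inv_mem hσm) (grp_aut n.2)) hc
  have h1 := congrArg Equiv.Perm.sign hx
  have hσs : Equiv.Perm.sign σ = -1 := by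
    show Equiv.Perm.sign ((bif Nat.beq 1 0 then 1 else RigidGraph.permOf 1782 RigidGraph.Suz.outer) *
      (wordVal wSg : Equiv.Perm (Fin 1782))) = -1
    rw [map_mul, RigidGraph.Suz.sign_grp (wordVal wSg).2, mul_one]
    exact RigidGraph.Suz.sign_outer
  rw [map_mul, map_inv, hσs, RigidGraph.Suz.sign_grp n.2, RigidGraph.Suz.sign_grp x.2, mul_one] at h1
  exact absurd h1 (by decide)

theorem centralizer_A0 : Subgroup.centralizer (A0 : Set ↥suzGroup) = A0 := by
  refine le_antisymm (fun c hc => ?_) fun x hx y hy => A0_comm hy hx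
  obtain ⟨x, hx, e⟩ := mem_span (grp_aut c.2) fun k => by
    rw [Fp, ← Subgroup.coe_mul, ← Subgroup.coe_mul, hc (F k) (mem_A0 k)]
  exact Subtype.ext e ▸ hx

end Cfsg.Agent.SuzThree
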