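import Cfsg.Agent.Lib.SuzThree.Defs

/-! The checks at the prime three. -/

set_option autoImplicit false
set_option maxRecDepth 100000
set_option Elab.async false

namespace Cfsg.Agent.SuzThree

theorem base_ok : baseOK = true := by decide +kernel

theorem indep_ok : indepOK = true := by decide +kernel

theorem norm_ok : normOK = true := by decide +kernel

theorem fix_ok : fixOK = true := by decide +kernel

theorem orbs_ok : (orbOK orbZero 0 && orbOK orbOne 1 && orbOK orbTwo pTwo) = true := by decide +kernel

theorem coverOne_ok : coverOK orbOne 1 = true := by decide +kernel

theorem coverZero_ok : coverOK orbZero 0 = true := by decide +kernel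

theorem fixCover_ok : fixCoverOK = true := by decide +kernel

theorem wit_ok : witOK = true := by decide +kernel

theorem roundOne_ok : roundOneOK = true := by decide +kernel

theorem classTwo_ok : classTwoOK = true := by decide +kernel

theorem roundTwo_ok : roundTwoOK = true := by decide +kernel

theorem sigma_ok : sigmaOK = true := by decide +kernel

theorem t_ok : tOK = true := by decide +kernel

theorem cases_ok : casesOK = true := by decide +kernel

theorem q_ok : qOK = true := by decide +kernel

end Cfsg.Agent.SuzThree
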