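import Mathlib.Data.List.Basic

/-! Data for the local subgroup at the prime three. -/

set_option autoImplicit false
set_option maxRecDepth 100000

namespace Cfsg.Agent.SuzThree

/-- five commuting elements of order three -/
def wBs : List (List ℕ) :=
  [[7, 6, 6, 6, 6, 6, 6, 7, 5, 6, 7, 6], [0, 6, 3, 6, 4, 4, 0, 5, 6, 3, 7, 2, 7], [1, 4, 6, 0, 4, 5, 4, 2, 6,
  6, 2, 5, 2, 5], [5, 2, 6, 4, 5, 4, 4, 4, 3, 7, 1, 2], [0, 4, 3, 6, 7, 5, 4, 0, 5, 7, 2, 0, 3, 0]]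

/-- three elements normalising their span -/
def wHs : List (List ℕ) :=
  [[2, 1, 1, 6, 3, 5, 7, 5, 0, 3, 7, 6, 6], [1, 6, 5, 1, 6, 4, 3, 7, 7, 7, 0, 4, 2, 4], [6, 1, 5, 6, 3, 4, 1,
  1, 7, 6, 7, 6, 6]]

/-- their linear actions, as codes -/
def imH : List (List ℕ) :=
  [[3, 18, 27, 81, 209], [1, 54, 205, 41, 6], [2, 6, 205, 79, 145]]

/-- eleven lines -/
def lineV : List ℕ :=
  [1, 3, 9, 27, 81, 145, 205, 184, 112, 79, 228]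

/-- a vector outside the lines -/
def uRep : ℕ := 4

/-- the orbit outside the lines, with parent and letter -/
def uTree : List (ℕ × ℕ × ℕ) :=
  [(21, 0, 0), (55, 0, 1), (8, 0, 2), (72, 1, 0), (131, 1, 1), (155, 1, 2), (165, 2, 0), (80, 2, 1), (40, 2,
  2), (15, 3, 0), (29, 3, 1), (216, 4, 0), (117, 4, 1), (88, 4, 2), (17, 5, 0), (138, 5, 1), (188, 5, 2),
  (107, 6, 0), (125, 6, 1), (231, 6, 2), (136, 7, 0), (57, 7, 1), (215, 7, 2), (146, 8, 1), (83, 8, 2), (129,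
  9, 0), (208, 9, 1), (163, 9, 2), (36, 10, 0), (232, 10, 1), (199, 10, 2), (87, 11, 0), (64, 12, 0), (73, 12,
  1), (220, 12, 2), (74, 13, 0), (240, 13, 1), (66, 13, 2), (194, 14, 0), (34, 14, 1), (147, 14, 2), (42, 15,
  0), (200, 15, 2), (119, 16, 0), (49, 16, 1), (99, 16, 2), (133, 17, 0), (106, 17, 1), (170, 18, 0), (100,
  18, 1), (196, 18, 2), (62, 19, 0), (70, 19, 2), (19, 20, 0), (197, 20, 1), (95, 20, 2), (77, 21, 1), (104,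
  21, 2), (180, 22, 0), (52, 22, 1), (38, 22, 2), (214, 23, 0), (108, 23, 1), (161, 24, 0), (11, 26, 0), (139,
  26, 1), (187, 26, 2), (202, 27, 0), (148, 28, 0), (234, 29, 1), (167, 29, 2), (22, 30, 0), (195, 30, 1),
  (94, 30, 2), (175, 31, 0), (238, 31, 1), (191, 32, 0), (33, 32, 1), (192, 33, 0), (236, 33, 2), (219, 34,
  0), (118, 34, 1), (58, 35, 0), (47, 35, 1), (222, 36, 0), (89, 36, 2), (46, 37, 0), (45, 37, 2), (207, 38,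
  0), (221, 38, 1), (223, 39, 0), (16, 39, 1), (93, 40, 0), (218, 41, 1), (178, 43, 0), (239, 43, 1), (242,
  44, 1), (67, 44, 2), (156, 45, 0), (143, 45, 1), (182, 46, 0), (5, 47, 0), (113, 47, 1), (183, 47, 2), (160,
  49, 0), (32, 49, 1), (210, 49, 2), (185, 50, 0), (153, 50, 1), (69, 51, 1), (173, 51, 2), (177, 52, 0), (24,
  52, 1), (201, 53, 0), (157, 54, 2), (241, 55, 0), (172, 55, 2), (233, 56, 0), (174, 56, 1), (92, 57, 1),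
  (86, 57, 2), (179, 58, 0), (127, 58, 1), (190, 58, 2), (13, 59, 2), (116, 60, 1), (122, 60, 2), (114, 61,
  0), (211, 62, 0), (110, 62, 1), (152, 64, 1), (225, 64, 2), (204, 65, 1), (206, 65, 2), (50, 66, 1), (101,
  66, 2), (130, 67, 0), (105, 67, 1), (166, 68, 0), (126, 68, 2), (149, 69, 0), (37, 70, 0), (120, 70, 1),
  (51, 70, 2), (142, 71, 0), (59, 71, 1), (213, 71, 2), (75, 72, 0), (154, 72, 2), (235, 73, 0), (71, 73, 1),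
  (171, 73, 2), (230, 74, 0), (176, 74, 1), (85, 75, 0), (140, 75, 2), (31, 76, 0), (43, 77, 1), (90, 78, 0),
  (68, 78, 1), (217, 79, 0), (53, 83, 1), (141, 84, 0), (35, 86, 1), (135, 88, 0), (82, 89, 1), (56, 89, 2),
  (61, 90, 0), (76, 91, 0), (20, 91, 1), (39, 92, 0), (198, 92, 2), (227, 93, 0), (23, 93, 2), (103, 95, 0),
  (137, 95, 2), (96, 99, 1), (124, 101, 0), (14, 101, 2), (7, 102, 2), (44, 103, 0), (10, 103, 1), (111, 103,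
  2), (109, 104, 0), (134, 104, 1), (151, 105, 1), (226, 105, 2), (115, 108, 0), (123, 109, 1), (237, 110, 2),
  (97, 111, 0), (63, 113, 0), (229, 115, 2), (25, 118, 0), (48, 125, 0), (65, 128, 1), (193, 129, 0), (181,
  133, 0), (159, 135, 0), (186, 137, 2), (164, 138, 0), (144, 144, 0), (121, 150, 1), (91, 152, 0), (203, 155,
  0), (150, 155, 2), (102, 157, 0), (12, 157, 1), (169, 158, 2), (26, 159, 2), (128, 165, 0), (212, 166, 0),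
  (168, 167, 0), (78, 167, 1), (84, 169, 2), (60, 170, 0), (28, 180, 1), (30, 182, 0), (189, 186, 1)]

/-- words moving four points in turn -/
def trans : List (List (List ℕ)) :=
  [[[], [0], [0, 0], [1, 0], [0, 1, 0], [0, 0, 1, 0], [1, 0, 0], [0, 1, 0, 0], [0, 0, 1, 0, 0], [1, 1, 0], [2,
  1, 0, 0]], [[], [], [2, 0, 0, 2, 0, 0, 0], [1], [2, 1, 1], [1, 1, 1], [0, 2, 1, 0, 0, 1], [0, 0, 2, 0, 0,
  0], [0, 2, 1, 0, 2, 0], [1, 1], [0, 2, 2, 0, 0, 1]], [[], [], [], [1, 1, 0, 2, 2, 0, 0], [0, 2, 0, 1, 1, 1,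
  0], [2, 0, 2, 0, 1, 1, 1, 0], [2], [2, 2, 2], [0, 0, 2, 2, 2, 0, 1, 0], [0, 0, 2, 1, 0, 2], [2, 2]], [[],
  [], [], [], [1, 0, 2, 0, 1, 2, 0, 0, 0], [2, 2, 2, 0, 0, 2, 1, 0], [0, 2, 1, 0, 0, 2, 1, 2], [0, 0, 2, 1, 0,
  2, 2], [0, 2, 2, 0, 0, 2, 1], [0, 0, 2, 2, 1, 2, 0, 0, 2, 0], [1, 2, 0, 0, 1, 2, 2, 0, 1, 0]]]

/-- an element inverting, up to the outer permutation -/
def wSg : List ℕ :=
  [0, 5, 5, 4, 4, 3, 4, 0, 2, 7, 6, 2, 5, 2]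

/-- an orbit, with codes of elements reaching it -/
def orbZero : List (ℕ × ℕ) :=
  [(0, 0), (2, 102), (3, 123), (4, 51), (5, 201), (8, 195), (9, 63), (10, 141), (11, 165), (13, 177), (14,
  237), (15, 30), (16, 21), (19, 192), (20, 174), (21, 99), (22, 129), (23, 147), (24, 57), (25, 66), (26,
  216), (27, 168), (28, 42), (30, 159), (32, 45), (36, 180), (39, 231), (40, 84), (42, 234), (43, 171), (45,
  108), (50, 135), (51, 186), (53, 117), (58, 126), (60, 90), (63, 36), (65, 60), (66, 210), (70, 213), (73,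
  105), (74, 48), (76, 15), (77, 198), (80, 153), (81, 75), (84, 69), (85, 138), (87, 114), (88, 219), (92,
  189), (96, 93), (97, 150), (98, 225), (99, 24), (100, 87), (105, 240), (135, 96), (139, 12), (186, 72),
  (188, 33), (189, 228), (192, 120), (200, 78), (206, 144), (207, 222), (208, 3), (220, 6), (254, 111), (299,
  9), (300, 207), (323, 156), (325, 81), (428, 18), (1030, 132), (1045, 54), (1046, 204), (1048, 183), (1050,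
  39), (1490, 27), (1700, 162)]

/-- an orbit, with codes of elements reaching it -/
def orbOne : List (ℕ × ℕ) :=
  [(1, 0), (6, 117), (7, 72), (12, 240), (17, 99), (18, 132), (29, 225), (31, 174), (33, 237), (34, 33), (35,
  84), (37, 216), (38, 147), (41, 66), (44, 201), (47, 15), (48, 189), (55, 138), (57, 75), (59, 177), (61,
  24), (62, 60), (64, 159), (67, 51), (69, 90), (71, 87), (72, 123), (75, 183), (78, 3), (79, 222), (82, 204),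
  (86, 9), (89, 150), (90, 63), (91, 180), (94, 135), (95, 108), (101, 129), (138, 30), (140, 69), (141, 153),
  (142, 198), (143, 192), (183, 39), (184, 186), (187, 207), (190, 12), (191, 105), (201, 141), (204, 93),
  (205, 168), (209, 81), (215, 231), (217, 48), (223, 210), (224, 165), (248, 219), (250, 45), (253, 114),
  (255, 102), (324, 171), (423, 126), (1006, 21), (1029, 195), (1031, 234), (1033, 57), (1034, 42), (1035,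
  27), (1036, 6), (1041, 213), (1042, 18), (1043, 120), (1044, 36), (1047, 144), (1051, 111), (1129, 54),
  (1509, 162), (1540, 96), (1696, 156), (1701, 78), (1781, 228)]

/-- an orbit, with codes of elements reaching it -/
def orbTwo : List (ℕ × ℕ) :=
  [(46, 0), (109, 23), (122, 22), (127, 2), (128, 1), (212, 21), (252, 13), (256, 25), (278, 24), (327, 45),
  (333, 47), (394, 79), (399, 78), (411, 46), (412, 75), (414, 26), (429, 80), (473, 77), (542, 76), (559, 5),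
  (585, 4), (642, 63), (644, 67), (656, 64), (661, 68), (686, 41), (688, 9), (710, 39), (712, 11), (780, 27),
  (785, 30), (808, 31), (830, 50), (847, 48), (936, 38), (941, 58), (944, 54), (952, 10), (958, 36), (963,
  59), (966, 56), (1053, 8), (1060, 7), (1064, 6), (1103, 40), (1109, 3), (1111, 49), (1127, 66), (1163, 57),
  (1188, 65), (1192, 32), (1235, 44), (1241, 43), (1256, 42), (1270, 74), (1285, 34), (1294, 71), (1298, 51),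
  (1364, 55), (1390, 33), (1393, 70), (1394, 53), (1400, 61), (1401, 37), (1418, 72), (1440, 60), (1468, 12),
  (1497, 62), (1546, 17), (1547, 15), (1550, 73), (1556, 16), (1564, 29), (1611, 35), (1631, 14), (1633, 28),
  (1660, 52), (1706, 69), (1748, 19), (1753, 20), (1759, 18)]

/-- a point of a third orbit -/
def pTwo : ℕ := 46

/-- the remaining points of the base -/
def lastRound : List ℕ :=
  [203]

/-- witnesses against exchanging two orbits -/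
def wit : List ℕ :=
  [3, 3, 3, 0, 0, 0, 9, 9, 9, 0, 0, 0, 3, 3, 3, 0, 0, 0, 21, 21, 21, 3, 3, 3, 0, 0, 0, 0, 0, 0, 3, 3, 3, 0, 0,
  0, 3, 3, 3, 0, 0, 0, 12, 12, 12, 3, 3, 3, 0, 0, 0, 9, 9, 9, 0, 0, 0, 21, 21, 21, 3, 3, 3, 9, 9, 9, 3, 3, 3,
  0, 0, 0, 0, 0, 0, 0, 0, 0, 3, 3, 3, 0, 0, 0, 3, 3, 3, 0, 0, 0, 3, 3, 3, 0, 0, 0, 27, 27, 27, 0, 0, 0, 15,
  15, 15, 3, 3, 3, 9, 9, 9, 3, 3, 3, 0, 0, 0, 0, 0, 0, 9, 9, 9, 3, 3, 3, 3, 3, 3, 0, 0, 0, 0, 0, 0, 3, 3, 3,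
  0, 0, 0, 9, 9, 9, 3, 3, 3, 0, 0, 0, 0, 0, 0, 0, 0, 0, 9, 9, 9, 3, 3, 3, 0, 0, 0, 9, 9, 9, 3, 3, 3, 3, 3, 3,
  0, 0, 0, 9, 9, 9, 3, 3, 3, 0, 0, 0, 0, 0, 0, 3, 3, 3, 0, 0, 0, 9, 9, 9, 0, 0, 0, 3, 3, 3, 0, 0, 0, 0, 0, 0,
  9, 9, 9, 3, 3, 3, 3, 3, 3, 0, 0, 0, 0, 0, 0, 0, 0, 0, 39, 39, 39, 3, 3, 3, 15, 15, 15, 3, 3, 3, 0, 0, 0]

/-- a Sylow subgroup of an involution centraliser -/
def tEls : List (List ℕ) :=
  [[], [7, 6, 6, 6, 6, 6, 6, 7, 5, 6, 7, 6], [3, 4, 6, 4, 7, 4, 7, 4, 7, 0, 0, 0, 2], [2, 0, 6, 7, 3, 4, 6, 6,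
  1, 4, 5, 0, 7], [2, 5, 4, 5, 6, 6, 3, 6, 3, 7, 4, 4, 2, 0], [6, 6, 7, 5, 5, 5, 6, 6, 6, 7, 7, 6], [2, 0, 3,
  1, 5, 0, 4, 5, 6, 0, 3, 6, 1, 4], [3, 5, 1, 2, 0, 3, 4, 6, 0, 0, 4, 1, 6, 1], [0, 5, 7, 1, 6, 5, 7, 0, 3, 3,
  7, 6, 0, 2], [4, 3, 3, 4, 7, 4, 4, 3, 1, 2, 2, 4, 1], [1, 4, 2, 6, 5, 0, 5, 3, 4, 3, 4, 6, 2], [1, 1, 2, 7,
  1, 2, 6, 4, 1, 5, 3, 3, 6, 0], [0, 6, 2, 6, 0, 6, 7, 1, 1, 1, 1, 2, 5, 3], [0, 2, 1, 1, 6, 3, 0, 3, 3, 1, 2,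
  0, 3, 0], [2, 7, 3, 1, 2, 6, 7, 7, 4, 3, 6, 7, 0], [2, 2, 0, 2, 7, 4, 0, 6, 3, 3, 4, 2, 4, 2], [3, 3, 6, 2,
  0, 0, 6, 7, 0, 4, 0, 4, 1], [0, 5, 6, 0, 3, 7, 1, 1, 3, 7, 3, 4, 5], [6, 4, 7, 1, 2, 6, 0, 7, 0, 5, 7, 7,
  1], [4, 1, 6, 7, 6, 4, 2, 1, 3, 6, 2, 4, 6], [1, 6, 5, 0, 7, 4, 0, 6, 1, 3, 5, 1, 5, 4], [1, 6, 1, 5, 3, 5,
  7, 5, 7, 6, 3, 0], [0, 0, 6, 6, 2, 5, 1, 6, 7, 7, 4, 6], [1, 3, 7, 6, 2, 6, 3, 7, 1, 2, 0, 2, 5, 3], [3, 1,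
  2, 5, 3, 1, 7, 6, 4, 2, 5, 6, 6], [1, 5, 2, 7, 0, 7, 7, 0, 7, 6, 3, 7, 3, 4], [0, 4, 5, 5, 7, 5, 4, 5, 0, 2,
  4, 5, 2, 2], [4, 3, 6, 5, 7, 6, 2, 2, 7, 5, 2, 1, 1, 2], [0, 4, 7, 1, 6, 7, 3, 3, 1, 5, 1, 6, 6, 3], [3, 7,
  0, 6, 0, 6, 2, 0, 7, 2, 5, 0, 7, 1], [1, 3, 5, 2, 6, 5, 6, 4, 4, 1, 6, 3, 6, 3], [2, 5, 0, 6, 3, 1, 7, 1, 7,
  1, 2, 6, 4, 3], [1, 1, 5, 4, 2, 7, 2, 1, 7, 7, 1, 7, 4, 6], [0, 6, 2, 1, 7, 7, 5, 7, 2, 0, 2, 2, 5, 2], [6,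
  1, 4, 3, 7, 3, 1, 7, 7, 4, 0, 7], [1, 6, 0, 3, 3, 3, 0, 4, 7, 4, 7, 6, 3, 5], [0, 7, 6, 1, 6, 4, 5, 3, 1, 7,
  2, 0, 6], [2, 5, 1, 6, 0, 0, 0, 4, 4, 5, 5, 6, 1, 4], [0, 7, 7, 5, 6, 5, 6, 6, 7, 4, 6, 7, 3, 5], [0, 4, 5,
  3, 6, 7, 4, 6, 7, 2, 1, 1, 7, 3], [3, 5, 7, 6, 4, 7, 6, 3, 5, 7, 5, 7, 3], [3, 0, 4, 7, 7, 7, 2, 1, 5, 4, 1,
  3, 4], [5, 2, 2, 6, 0, 7, 7, 3, 6, 3, 6, 5, 0, 3], [1, 7, 5, 3, 3, 3, 1, 3, 6, 4, 1, 4, 0, 0], [0, 4, 1, 6,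
  5, 5, 7, 6, 3, 5, 3, 1, 6, 2], [0, 4, 0, 3, 7, 4, 7, 3, 0, 2, 0, 3, 5, 0], [0, 6, 3, 7, 6, 3, 7, 5, 1, 5, 2,
  5, 5, 5], [5, 4, 1, 7, 5, 5, 5, 1, 6, 6, 1, 5, 6], [4, 0, 4, 5, 1, 7, 1, 2, 0, 7, 1, 1, 4], [1, 1, 4, 4, 1,
  2, 4, 6, 5, 7, 2, 1, 7, 5], [7, 1, 1, 1, 7, 7, 3, 4, 6, 3, 0, 7, 1], [0, 0, 4, 7, 1, 7, 3, 4, 0, 7, 6, 3, 6,
  5], [4, 5, 0, 0, 2, 6, 7, 1, 5, 3, 6, 1, 2], [0, 0, 6, 5, 2, 2, 4, 3, 3, 7, 4, 1, 5, 6], [1, 1, 3, 6, 7, 1,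
  4, 2, 4, 6, 5, 1, 2, 4], [1, 3, 3, 5, 7, 4, 1, 7, 0, 5, 3, 5, 7, 1], [7, 4, 4, 4, 5, 7, 1, 2, 1, 5, 0, 5,
  5], [1, 2, 7, 1, 3, 0, 4, 3, 3, 0, 5, 4, 6, 6], [3, 4, 7, 7, 7, 4, 3, 6, 4, 2, 1, 1, 5, 3], [4, 5, 1, 6, 2,
  7, 6, 4, 3, 0, 6, 5], [0, 6, 1, 4, 3, 4, 5, 1, 3, 6, 3, 6, 5], [0, 3, 7, 7, 3, 0, 0, 2, 0, 0, 2, 6, 5, 2],
  [3, 4, 0, 7, 7, 3, 3, 4, 4, 2, 0, 4, 1], [1, 2, 1, 2, 4, 1, 3, 0, 4, 6, 0, 6, 7, 1], [0, 3, 4, 4, 6, 5, 4,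
  3, 3, 1, 7, 4, 2, 2], [1, 4, 0, 6, 0, 0, 5, 4, 3, 1, 5, 7, 1, 3], [4, 4, 1, 6, 3, 7, 3, 5, 1, 6, 7, 2, 4,
  1], [1, 7, 1, 7, 3, 6, 2, 0, 0, 7, 3, 7, 6, 2], [0, 0, 4, 5, 6, 0, 7, 4, 3, 4, 5, 5, 4, 1], [0, 7, 3, 4, 1,
  2, 2, 1, 4, 4, 3, 6, 5, 6], [2, 0, 4, 5, 3, 1, 7, 2, 4, 2, 2, 4, 0, 4], [0, 2, 7, 5, 7, 1, 4, 6, 3, 6, 0, 7,
  5], [2, 2, 7, 1, 1, 7, 7, 3, 7, 7, 6, 4, 4], [1, 4, 3, 0, 4, 4, 5, 7, 3, 6, 3, 6, 1], [6, 4, 6, 4, 2, 5, 6,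
  2, 5, 5, 5, 0, 2, 5], [5, 0, 4, 7, 2, 2, 7, 3, 4, 6, 7, 0, 4, 3], [6, 1, 2, 0, 6, 1, 3, 7, 3, 4, 1, 7, 6],
  [2, 2, 6, 7, 4, 2, 0, 4, 2, 1, 2, 2, 5, 3], [5, 7, 1, 4, 1, 4, 7, 7, 4, 5, 7, 0, 6], [3, 0, 0, 6, 7, 1, 7,
  7, 7, 6, 5, 6, 7, 2], [0, 0, 6, 0, 6, 0, 7, 1, 7, 7, 2, 4, 1, 6]]

/-- left multiplication by four generators -/
def tTab : List (List ℕ) :=
  [[1, 5, 6, 7, 14, 0, 17, 18, 25, 20, 21, 32, 23, 35, 37, 38, 36, 2, 3, 31, 43, 44, 49, 45, 52, 54, 13, 53,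
  47, 24, 48, 62, 64, 63, 22, 26, 65, 4, 61, 66, 59, 57, 67, 9, 10, 12, 69, 73, 74, 34, 39, 40, 29, 70, 8, 77,
  75, 78, 76, 51, 42, 15, 19, 72, 11, 16, 50, 60, 56, 79, 27, 55, 33, 28, 30, 68, 80, 71, 41, 46, 58], [2, 6,
  9, 10, 15, 17, 20, 21, 26, 0, 28, 8, 30, 32, 38, 40, 42, 43, 44, 29, 1, 47, 19, 48, 49, 13, 11, 57, 3, 22,
  58, 24, 25, 36, 62, 64, 67, 61, 59, 70, 4, 39, 72, 5, 73, 74, 75, 7, 76, 31, 53, 37, 34, 78, 35, 79, 55, 66,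
  12, 14, 63, 51, 52, 65, 54, 60, 27, 33, 71, 68, 41, 69, 16, 18, 80, 77, 23, 46, 50, 56, 45], [3, 7, 10, 12,
  8, 18, 21, 23, 19, 28, 30, 22, 0, 24, 25, 26, 39, 44, 45, 4, 47, 48, 40, 1, 38, 31, 29, 55, 58, 15, 2, 14,
  49, 57, 51, 52, 66, 54, 13, 68, 11, 69, 70, 73, 74, 5, 63, 76, 6, 59, 75, 64, 61, 77, 62, 67, 36, 79, 9, 32,
  53, 35, 37, 78, 34, 50, 56, 27, 16, 72, 71, 42, 41, 80, 17, 65, 20, 60, 46, 33, 43], [4, 8, 11, 13, 16, 19,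
  22, 24, 27, 29, 31, 33, 34, 36, 39, 41, 0, 40, 38, 46, 15, 14, 50, 51, 53, 55, 56, 1, 59, 60, 61, 63, 57, 2,
  65, 66, 3, 68, 69, 21, 71, 20, 28, 26, 25, 64, 5, 32, 35, 75, 6, 70, 77, 7, 67, 44, 43, 47, 54, 42, 9, 72,
  78, 10, 79, 12, 48, 58, 80, 18, 23, 17, 30, 49, 52, 73, 62, 74, 76, 45, 37]]

/-- the generators -/
def tGen : List ℕ :=
  [1, 2, 3, 4]

/-- an orbit in the extraspecial subgroup, with parent and letter -/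
def qTree : List (ℕ × ℕ × ℕ) :=
  [(1, 0, 0), (2, 0, 1), (3, 0, 2), (4, 0, 3), (5, 0, 4), (6, 0, 5), (7, 1, 0), (8, 1, 1), (9, 1, 2), (10, 1,
  3), (11, 1, 4), (12, 1, 5), (13, 1, 6), (14, 1, 7), (15, 1, 9), (16, 2, 0), (17, 2, 1), (18, 2, 3), (19, 2,
  5), (20, 2, 7), (21, 3, 0), (22, 3, 1), (23, 3, 3), (24, 3, 4), (25, 4, 0), (26, 4, 7), (27, 5, 0), (28, 5,
  5), (29, 6, 0), (30, 6, 3), (31, 7, 3), (32, 8, 1), (33, 8, 2), (34, 8, 4), (35, 8, 5), (36, 9, 0), (37, 9,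
  7), (38, 10, 0), (39, 10, 2), (40, 10, 3), (41, 10, 5), (42, 11, 0), (43, 11, 2), (44, 11, 5), (45, 11, 9),
  (46, 12, 0), (47, 12, 6), (48, 14, 4), (49, 16, 4), (50, 17, 0), (51, 18, 0), (52, 23, 1), (53, 33, 3)]

/-- elements conjugate to the first line -/
def tGood : List (ℕ × List ℕ) :=
  [(1, [0, 7, 0, 6, 2, 7, 7, 2, 7, 7, 1, 7, 6]), (3, [1, 7, 3, 1, 7, 3, 6, 6, 4, 4, 7, 7, 1, 3]), (5, [1, 7,
  3, 7, 4, 4, 2, 7, 1, 1, 6, 1, 6, 6]), (12, [3, 6, 2, 7, 0, 2, 4, 3, 5, 6, 4, 3, 3]), (21, [3, 7, 2, 7, 7, 5,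
  0, 6, 1, 4, 3, 4, 0]), (80, [0, 6, 6, 5, 3, 0, 6, 0, 6, 0, 3, 6, 4, 5])]

/-- elements with many commutators -/
def tBad : List (ℕ × List (List ℕ)) :=
  [(2, [[], [0], [1], [2], [3], [5], [6], [7], [8]]), (4, [[], [0], [1], [2], [3], [5], [6], [8], [9]]), (6,
  [[], [0], [1], [2], [3], [5], [6], [7], [8]]), (7, [[], [0], [1], [2], [3], [5], [8], [9], [10]]), (9, [[],
  [0], [1], [2], [3], [5], [6], [7], [8]]), (10, [[], [0], [1], [2], [3], [5], [10], [11], [12]]), (16, [[],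
  [0], [1], [2], [3], [5], [6], [8], [9]]), (17, [[], [0], [1], [2], [3], [5], [6], [7], [8]]), (18, [[], [0],
  [1], [2], [3], [5], [8], [9], [10]]), (20, [[], [0], [1], [2], [3], [5], [6], [7], [8]]), (22, [[], [0],
  [1], [2], [6], [7], [10], [12], [14]]), (23, [[], [0], [1], [2], [3], [5], [8], [9], [10]]), (26, [[], [0],
  [1], [2], [3], [5], [6], [8], [9]]), (28, [[], [0], [1], [2], [3], [5], [6], [7], [8]]), (30, [[], [0], [1],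
  [2], [3], [5], [6], [7], [8]]), (31, [[], [0], [1], [3], [5], [7], [9], [12], [14]]), (32, [[], [0], [1],
  [3], [5], [6], [7], [8], [9]]), (38, [[], [0], [1], [2], [3], [5], [6], [7], [8]]), (43, [[], [0], [1], [2],
  [3], [5], [6], [7], [8]]), (44, [[], [0], [1], [2], [3], [5], [10], [11], [12]]), (45, [[], [0], [1], [2],
  [3], [5], [8], [9], [10]]), (47, [[], [0], [1], [2], [3], [5], [6], [7], [8]]), (48, [[], [0], [1], [2],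
  [3], [5], [6], [7], [8]]), (50, [[], [0], [1], [2], [3], [6], [7], [8], [9]]), (51, [[], [0], [1], [2], [3],
  [6], [7], [8], [9]]), (52, [[], [0], [1], [2], [5], [7], [8], [10], [12]]), (54, [[], [0], [1], [2], [3],
  [5], [6], [7], [8]]), (56, [[], [0], [1], [2], [3], [5], [6], [7], [8]]), (57, [[], [0], [1], [2], [5], [7],
  [8], [10], [12]]), (58, [[], [0], [1], [2], [3], [5], [10], [11], [12]]), (63, [[], [0], [1], [2], [6], [7],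
  [10], [12], [14]]), (67, [[], [0], [1], [2], [3], [5], [6], [8], [9]]), (69, [[], [0], [1], [3], [5], [7],
  [9], [12], [14]]), (70, [[], [0], [1], [2], [3], [5], [6], [7], [8]]), (73, [[], [0], [1], [2], [3], [5],
  [6], [7], [8]]), (74, [[], [0], [1], [2], [3], [5], [6], [7], [8]]), (76, [[], [0], [1], [2], [3], [5],
  [10], [11], [12]]), (77, [[], [0], [1], [3], [5], [6], [7], [8], [9]])]

end Cfsg.Agent.SuzThree
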