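import Cfsg.Agent.Lib.SuzRecog.Present
import Cfsg.Agent.Lib.SuzThree.Data

/-! Checkers for the local subgroup at the prime three. -/

set_option autoImplicit false
set_option maxRecDepth 100000

namespace Cfsg.Agent.SuzThree

open Cfsg.Agent.SuzOut (evW okWord keyOf base sigIf)
open Cfsg.Agent.SuzRecog (dW sameW commW neOneW oneW fixW genA orb54 wA)
open Cfsg.Agent.RigidGraph (bit roundsOK classCnt allB eqB)
open Cfsg.Agent.RigidGraph.Suz (graph)

/-- a power of a word -/
def powW (w : List ℕ) (n : ℕ) : List ℕ := (List.replicate n w).flatten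

/-- a digit -/
def dig (k i : ℕ) : ℕ := k / 3 ^ i % 3

/-- the code of five digits -/
def cod (a b c d e : ℕ) : ℕ := a % 3 + 3 * (b % 3) + 9 * (c % 3) + 27 * (d % 3) + 81 * (e % 3)

/-- one of the five words -/
def wBi (i : ℕ) : List ℕ := wBs.getD i []

/-- the word of a code -/
def wF (k : ℕ) : List ℕ :=
  powW (wBi 0) (dig k 0) ++ (powW (wBi 1) (dig k 1) ++ (powW (wBi 2) (dig k 2) ++
    (powW (wBi 3) (dig k 3) ++ powW (wBi 4) (dig k 4))))

/-- a normalising word -/
def wHj (j : ℕ) : List ℕ := wHs.getD j []

/-- a coordinate of the image under a linear map -/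
def linDig (im : List ℕ) (k i : ℕ) : ℕ :=
  dig k 0 * dig (im.getD 0 0) i + dig k 1 * dig (im.getD 1 0) i + dig k 2 * dig (im.getD 2 0) i +
    dig k 3 * dig (im.getD 3 0) i + dig k 4 * dig (im.getD 4 0) i

/-- a linear map on codes -/
def lin (im : List ℕ) (k : ℕ) : ℕ :=
  cod (linDig im k 0) (linDig im k 1) (linDig im k 2) (linDig im k 3) (linDig im k 4)

/-- a line -/
def lineC (i : ℕ) : ℕ := lineV.getD i 0

/-- the opposite code -/
def negC (k : ℕ) : ℕ := cod (2 * dig k 0) (2 * dig k 1) (2 * dig k 2) (2 * dig k 3) (2 * dig k 4)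

/-- the linear map of a letter -/
def imJ (j : ℕ) : List ℕ := imH.getD j []

/-- an entry of the tree outside the lines -/
def uAt (i : ℕ) : ℕ := if i = 0 then uRep else (uTree.getD (i - 1) (0, 0, 0)).1

/-- the five elements -/
def baseOK : Bool :=
  Nat.beq wBs.length 5 && (List.range 5).all (fun i => okWord (wBi i) && oneW (powW (wBi i) 3) &&
    (List.range 5).all fun j => Nat.ble j i || commW (wBi i) (wBi j))

/-- their products -/
noncomputable def indepOK : Bool := allB (fun k => Nat.beq k 0 || neOneW (wF k)) 243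

/-- the three normalising elements -/
def normOK : Bool :=
  (List.range 3).all fun j => okWord (wHj j) && (List.range 5).all fun i =>
    Nat.blt ((imJ j).getD i 0) 243 && sameW (wHj j ++ wBi i) (wF ((imJ j).getD i 0) ++ wHj j)

/-- numbers of fixed points -/
noncomputable def fixOK : Bool := Nat.beq (fixW (wF (lineC 0))) 162 && !Nat.beq (fixW (wF uRep)) 162

/-- membership in a listed orbit -/
def inPts (o : List (ℕ × ℕ)) (q : ℕ) : Bool := (o.map fun p => p.1).contains q

/-- an orbit of the five elements -/
noncomputable def orbOK (o : List (ℕ × ℕ)) (b : ℕ) : Bool :=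
  o.all fun p => Nat.blt p.1 1782 && Nat.blt p.2 243 && Nat.beq (evW (wF p.2) b) p.1

/-- a point has its image listed under all products -/
noncomputable def coverOK (o : List (ℕ × ℕ)) (b : ℕ) : Bool := allB (fun k => inPts o (evW (wF k) b)) 243

/-- the points fixed by the first element -/
noncomputable def fixCoverOK : Bool :=
  Nat.beq (evW (wBi 0) 0) 0 && Nat.beq (evW (wBi 0) 1) 1 && !inPts orbZero 1 && !inPts orbOne 0 &&
    allB (fun q => !Nat.beq (evW (wBi 0) q) q || inPts orbZero q || inPts orbOne q) 1782

/-- the two orbits cannot be exchanged -/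
noncomputable def witOK : Bool :=
  allB (fun a => let d := wit.getD a 0
    Nat.blt d 243 && !eqB (bit (graph.B.get 0) (evW (wF d) 1)) (bit (graph.B.get 1) (evW (wF d ++ wF a) 0))) 243

/-- the points of two orbits -/
def ptsOne : List ℕ := orbZero.map (fun p => p.1) ++ orbOne.map fun p => p.1

/-- the points of three orbits -/
def ptsTwo : List ℕ := ptsOne ++ orbTwo.map fun p => p.1

/-- from the first orbit to the second -/
noncomputable def roundOneOK : Bool :=
  roundsOK 1782 graph (orbZero.map fun p => p.1) [orbOne.map fun p => p.1]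

/-- the class of the third point -/
noncomputable def classTwoOK : Bool :=
  Nat.blt pTwo 1782 && !ptsOne.contains pTwo && Nat.beq (classCnt 1782 graph ptsOne [] pTwo) 3 &&
    !Nat.beq (evW (wBi 0) pTwo) pTwo

/-- from three orbits to the base -/
noncomputable def roundTwoOK : Bool :=
  roundsOK 1782 graph ptsTwo [lastRound] && base.all fun b => (ptsTwo ++ lastRound).contains b

/-- the inverting permutation -/
def sigmaOK : Bool :=
  okWord wSg && (List.range 5).all fun i =>
    base.map (fun b => sigIf 1 (evW wSg (evW (wBi i) b))) ==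
      base.map (fun b => evW (powW (wBi i) 2) (sigIf 1 (evW wSg b)))

/-- an element of the Sylow subgroup -/
def wT (i : ℕ) : List ℕ := tEls.getD i []

/-- the Sylow subgroup of the centraliser -/
def tOK : Bool :=
  Nat.beq tEls.length 81 && Nat.beq tTab.length 4 && (wT 0).isEmpty &&
  (List.range 81).all (fun i => commW (wT i) wA) &&
  (List.range 4).all (fun j => (List.range 81).all fun i => Nat.blt ((tTab.getD j []).getD i 0) 81 &&
    sameW (wT (tGen.getD j 0) ++ wT i) (wT ((tTab.getD j []).getD i 0))) &&
  (List.range 81).all fun i => Nat.blt (tGen.getD 0 0) 81 && Nat.blt (tGen.getD 1 0) 81 && Nat.blt (tGen.getD 2 0) 81 && Nat.blt (tGen.getD 3 0) 81 &&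
    (Nat.beq i 0 || (List.range 4).any fun j => (List.range i).any fun k => Nat.beq ((tTab.getD j []).getD k 0) i)

/-- no two listed elements are equal -/
def nodupW (l : List (List ℕ)) : Bool :=
  let ks := l.map keyOf
  l.all okWord && (List.range ks.length).all fun i => (List.range i).all fun j => !(ks.getD i [] == ks.getD j [])

/-- a product of orbit elements -/
def wQ (c : List ℕ) : List ℕ := (c.map fun j => dW (orb54.getD j 0)).flatten

/-- the inverse product of orbit elements -/
def wQi (c : List ℕ) : List ℕ := (c.reverse.map fun j => dW (orb54.getD j 0)).flatten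

/-- a commutator word -/
def wComm (i : ℕ) (c : List ℕ) : List ℕ := wQ c ++ (wT i ++ (wQi c ++ powW (wT i) 2))

/-- the cases -/
def casesOK : Bool :=
  tGood.all (fun r => okWord r.2 && sameW (r.2 ++ wT r.1) (wBi 0 ++ r.2)) &&
  tBad.all (fun r => Nat.beq r.2.length 9 && r.2.all (fun c => c.all fun j => Nat.blt j orb54.length) &&
    nodupW (r.2.map (wComm r.1))) &&
  (List.range 81).all fun i => Nat.beq i 0 || (tGood.any fun r => Nat.beq r.1 i) ||
    (tBad.any fun r => Nat.beq r.1 i) || neOneW (powW (wT i) 3)

/-- an entry of the orbit in the extraspecial subgroup -/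
def qAt (i : ℕ) : ℕ := if i = 0 then 0 else (qTree.getD (i - 1) (0, 0, 0)).1

/-- the orbit in the extraspecial subgroup -/
def qOK : Bool :=
  orb54.all (fun x => oneW (dW x ++ dW x)) &&
  (List.range orb54.length).all (fun x => (List.range (qTree.length + 1)).any fun i => Nat.beq (qAt i) x) &&
  (List.range qTree.length).all fun i => let r := qTree.getD i (0, 0, 0)
    Nat.ble r.2.1 i && Nat.blt r.2.2 genA.length &&
      sameW (dW (genA.getD r.2.2 0) ++ dW (orb54.getD (qAt r.2.1) 0))
        (dW (orb54.getD r.1 0) ++ dW (genA.getD r.2.2 0))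

end Cfsg.Agent.SuzThree
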