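import Cfsg.Agent.Lib.SuzThree.Checks

/-! Five commuting elements of order three and their span. -/

set_option autoImplicit false
set_option maxRecDepth 100000
set_option Elab.async false

namespace Cfsg.Agent.SuzThree

open Cfsg.Agent.SuzOut (okWord okWord_mem wordVal wordVal_append val_nil)
open Cfsg.Agent.SuzRecog (sameW_spec sameW_conj commW_spec oneW_spec neOneW_spec)
open Cfsg.Agent.RigidGraph (allB_spec)
open Cfsg.Agent.RigidGraph.Suz (suzGroup)

attribute [local irreducible] wordVal SuzOut.lets RigidGraph.Suz.nodes RigidGraph.Suz.graph RigidGraph.Suz.outer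

theorem val_powW (w : List ℕ) (n : ℕ) : wordVal (powW w n) = wordVal w ^ n := by
  induction n with
  | zero => simp [powW, val_nil]
  | succ n ih =>
    have e : powW w (n + 1) = w ++ powW w n := by simp [powW, List.replicate_succ]
    rw [e, wordVal_append, ih, pow_succ']

theorem okWord_powW {w : List ℕ} (hw : okWord w = true) (n : ℕ) : okWord (powW w n) = true := by
  induction n with
  | zero => rfl
  | succ n ih =>
    have e : powW w (n + 1) = w ++ powW w n := by simp [powW, List.replicate_succ]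
    rw [e, SuzRecog.okWord_append, hw, ih]; rfl

/-- one of the five elements -/
noncomputable def v (i : ℕ) : ↥suzGroup := wordVal (wBi i)

theorem v_ok {i : ℕ} (hi : i < 5) : okWord (wBi i) = true ∧ v i ^ 3 = 1 := by
  have h := base_ok
  simp only [baseOK, Bool.and_eq_true, List.all_eq_true, List.mem_range] at h
  obtain ⟨⟨hw, h3⟩, -⟩ := h.2 i hi
  exact ⟨hw, by rw [v, ← val_powW]; exact oneW_spec h3⟩

theorem v_comm {i j : ℕ} (hi : i < 5) (hj : j < 5) : Commute (v i) (v j) := by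
  have h := base_ok
  simp only [baseOK, Bool.and_eq_true, List.all_eq_true, List.mem_range, Bool.or_eq_true, Nat.ble_eq] at h
  rcases lt_trichotomy i j with h1 | rfl | h1
  · exact commW_spec (((h.2 i hi).2 j hj).resolve_left (by omega))
  · exact Commute.refl _
  · exact (show Commute (v j) (v i) from
      commW_spec (((h.2 j hj).2 i hi).resolve_left (by omega))).symm

/-- a product of powers -/
noncomputable def prodV (a b c d e : ℕ) : ↥suzGroup := v 0 ^ a * (v 1 ^ b * (v 2 ^ c * (v 3 ^ d * v 4 ^ e)))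

theorem prodV_mul (a b c d e a' b' c' d' e' : ℕ) :
    prodV a b c d e * prodV a' b' c' d' e' = prodV (a + a') (b + b') (c + c') (d + d') (e + e') := by
  have C : ∀ {i j : ℕ}, i < 5 → j < 5 → ∀ m n : ℕ, Commute (v i ^ m) (v j ^ n) := fun hi hj m n =>
    ((v_comm hi hj).pow_left m).pow_right n
  have c1 : Commute (v 1 ^ b * (v 2 ^ c * (v 3 ^ d * v 4 ^ e))) (v 0 ^ a') :=
    (C (by norm_num) (by norm_num) _ _).mul_left ((C (by norm_num) (by norm_num) _ _).mul_left
      ((C (by norm_num) (by norm_num) _ _).mul_left (C (by norm_num) (by norm_num) _ _)))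
  have c2 : Commute (v 2 ^ c * (v 3 ^ d * v 4 ^ e)) (v 1 ^ b') :=
    (C (by norm_num) (by norm_num) _ _).mul_left
      ((C (by norm_num) (by norm_num) _ _).mul_left (C (by norm_num) (by norm_num) _ _))
  have c3 : Commute (v 3 ^ d * v 4 ^ e) (v 2 ^ c') :=
    (C (by norm_num) (by norm_num) _ _).mul_left (C (by norm_num) (by norm_num) _ _)
  have c4 : Commute (v 4 ^ e) (v 3 ^ d') := C (by norm_num) (by norm_num) _ _
  rw [prodV, prodV, prodV, c1.mul_mul_mul_comm, c2.mul_mul_mul_comm, c3.mul_mul_mul_comm, c4.mul_mul_mul_comm,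
    pow_add, pow_add, pow_add, pow_add, pow_add]

theorem prodV_zero : prodV 0 0 0 0 0 = 1 := by simp [prodV]

theorem prodV_pow (a b c d e m : ℕ) : prodV a b c d e ^ m = prodV (m * a) (m * b) (m * c) (m * d) (m * e) := by
  induction m with
  | zero => simp [prodV_zero]
  | succ m ih => rw [pow_succ, ih, prodV_mul]; simp only [Nat.succ_mul]

theorem prodV_mod (a b c d e : ℕ) : prodV a b c d e = prodV (a % 3) (b % 3) (c % 3) (d % 3) (e % 3) := by
  simp only [prodV, ← pow_eq_pow_mod _ (v_ok (i := 0) (by norm_num)).2,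
    ← pow_eq_pow_mod _ (v_ok (i := 1) (by norm_num)).2, ← pow_eq_pow_mod _ (v_ok (i := 2) (by norm_num)).2,
    ← pow_eq_pow_mod _ (v_ok (i := 3) (by norm_num)).2, ← pow_eq_pow_mod _ (v_ok (i := 4) (by norm_num)).2]

/-- the element of a code -/
noncomputable def F (k : ℕ) : ↥suzGroup := prodV (dig k 0) (dig k 1) (dig k 2) (dig k 3) (dig k 4)

theorem val_wF (k : ℕ) : wordVal (wF k) = F k := by
  simp only [wF, wordVal_append, val_powW, F, prodV, v]

theorem okWord_wF (k : ℕ) : okWord (wF k) = true := by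
  simp only [wF, SuzRecog.okWord_append, okWord_powW (v_ok (i := 0) (by norm_num)).1,
    okWord_powW (v_ok (i := 1) (by norm_num)).1, okWord_powW (v_ok (i := 2) (by norm_num)).1,
    okWord_powW (v_ok (i := 3) (by norm_num)).1, okWord_powW (v_ok (i := 4) (by norm_num)).1, Bool.and_self]

theorem cod_lt (a b c d e : ℕ) : cod a b c d e < 243 := by unfold cod; omega

theorem dig_cod (a b c d e : ℕ) : dig (cod a b c d e) 0 = a % 3 ∧ dig (cod a b c d e) 1 = b % 3 ∧
    dig (cod a b c d e) 2 = c % 3 ∧ dig (cod a b c d e) 3 = d % 3 ∧ dig (cod a b c d e) 4 = e % 3 := by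
  unfold dig cod; omega

theorem F_cod (a b c d e : ℕ) : F (cod a b c d e) = prodV a b c d e := by
  obtain ⟨h0, h1, h2, h3, h4⟩ := dig_cod a b c d e
  rw [F, h0, h1, h2, h3, h4, ← prodV_mod]

theorem F_mul (j k : ℕ) : F j * F k =
    F (cod (dig j 0 + dig k 0) (dig j 1 + dig k 1) (dig j 2 + dig k 2) (dig j 3 + dig k 3) (dig j 4 + dig k 4)) := by
  rw [F_cod, F, F, prodV_mul]

theorem F_zero : F 0 = 1 := prodV_zero

theorem F_neg (k : ℕ) : F (negC k) = (F k)⁻¹ := by
  rw [negC, F_cod, eq_inv_iff_mul_eq_one, F, prodV_mul, prodV_mod]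
  have e : ∀ x : ℕ, (2 * x + x) % 3 = 0 := fun x => by omega
  simp only [e, prodV_zero]

theorem F_eq_one {k : ℕ} (hk : k < 243) (h : F k = 1) : k = 0 := by
  have hb := allB_spec indep_ok hk
  simp only [Bool.or_eq_true, Nat.beq_eq] at hb
  refine hb.resolve_right fun hn => ?_
  exact neOneW_spec hn (by rw [val_wF, h])

theorem F_inj {j k : ℕ} (hj : j < 243) (hk : k < 243) (h : F j = F k) : j = k := by
  have e : F j * F (negC k) = 1 := by rw [F_neg, h, mul_inv_cancel]
  rw [F_mul] at e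
  have h0 := F_eq_one (cod_lt _ _ _ _ _) e
  obtain ⟨d0, d1, d2, d3, d4⟩ := dig_cod (2 * dig k 0) (2 * dig k 1) (2 * dig k 2) (2 * dig k 3) (2 * dig k 4)
  rw [negC, d0, d1, d2, d3, d4] at h0
  have dlt : ∀ k i, dig k i < 3 := fun k i => Nat.mod_lt _ (by norm_num)
  have key : ∀ a b : ℕ, a < 3 → b < 3 → (a + 2 * b % 3) % 3 = 0 → a = b := fun a b _ _ _ => by omega
  have hsplit : ∀ a b c d e : ℕ, cod a b c d e = 0 → a % 3 = 0 ∧ b % 3 = 0 ∧ c % 3 = 0 ∧ d % 3 = 0 ∧ e % 3 = 0 := by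
    intro a b c d e h; unfold cod at h; omega
  obtain ⟨e0, e1, e2, e3, e4⟩ := hsplit _ _ _ _ _ h0
  have f0 := key _ _ (dlt j 0) (dlt k 0) e0
  have f1 := key _ _ (dlt j 1) (dlt k 1) e1
  have f2 := key _ _ (dlt j 2) (dlt k 2) e2
  have f3 := key _ _ (dlt j 3) (dlt k 3) e3
  have f4 := key _ _ (dlt j 4) (dlt k 4) e4
  have hval : ∀ k < 243, k = dig k 0 + 3 * dig k 1 + 9 * dig k 2 + 27 * dig k 3 + 81 * dig k 4 := fun k _ => by
    unfold dig; omega
  rw [hval j hj, hval k hk, f0, f1, f2, f3, f4]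

/-- The span. -/
noncomputable def A0 : Subgroup ↥suzGroup where
  carrier := {x | ∃ k < 243, x = F k}
  one_mem' := ⟨0, by norm_num, F_zero.symm⟩
  mul_mem' := by
    rintro _ _ ⟨j, -, rfl⟩ ⟨k, -, rfl⟩
    exact ⟨_, cod_lt _ _ _ _ _, F_mul j k⟩
  inv_mem' := by
    rintro _ ⟨k, -, rfl⟩
    exact ⟨_, cod_lt _ _ _ _ _, (F_neg k).symm⟩

theorem mem_A0 (k : ℕ) : F k ∈ A0 := by
  refine ⟨cod (dig k 0) (dig k 1) (dig k 2) (dig k 3) (dig k 4), cod_lt _ _ _ _ _, ?_⟩
  rw [F_cod]; rfl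

theorem prodV_mem (a b c d e : ℕ) : prodV a b c d e ∈ A0 := F_cod a b c d e ▸ mem_A0 _

theorem card_A0 : Nat.card ↥A0 = 243 := by
  have hb : Function.Bijective fun k : Fin 243 => (⟨F k, mem_A0 _⟩ : ↥A0) :=
    ⟨fun j k e => Fin.ext (F_inj j.2 k.2 (congrArg Subtype.val e)),
      fun ⟨x, k, hk, hx⟩ => ⟨⟨k, hk⟩, Subtype.ext hx.symm⟩⟩
  rw [← Nat.card_eq_of_bijective _ hb, Nat.card_eq_fintype_card, Fintype.card_fin]

theorem A0_comm {x y : ↥suzGroup} (hx : x ∈ A0) (hy : y ∈ A0) : x * y = y * x := by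
  obtain ⟨j, -, rfl⟩ := hx
  obtain ⟨k, -, rfl⟩ := hy
  rw [F_mul, F_mul]
  simp only [Nat.add_comm (dig j _)]

theorem A0_cube {x : ↥suzGroup} (hx : x ∈ A0) : x ^ 3 = 1 := by
  obtain ⟨k, -, rfl⟩ := hx
  rw [F, prodV_pow, prodV_mod]
  have e : ∀ a : ℕ, (3 * a) % 3 = 0 := fun a => by omega
  simp only [e, prodV_zero]

theorem F_v {i : ℕ} (hi : i < 5) : F (3 ^ i) = v i := by
  interval_cases i <;> simp [F, prodV, dig]

/-- Conjugation acts linearly on codes. -/
theorem conj_F (c : ↥suzGroup) (im : List ℕ) (h : ∀ i < 5, c * v i * c⁻¹ = F (im.getD i 0)) (k : ℕ) :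
    c * F k * c⁻¹ = F (lin im k) := by
  have e : ∀ x y : ↥suzGroup, c * (x * y) * c⁻¹ = c * x * c⁻¹ * (c * y * c⁻¹) := fun x y => by group
  rw [lin, F_cod]
  conv_lhs => rw [F, prodV]
  simp only [e, ← conj_pow, h 0 (by norm_num), h 1 (by norm_num), h 2 (by norm_num), h 3 (by norm_num),
    h 4 (by norm_num)]
  simp only [F, prodV_pow, prodV_mul, linDig, Nat.add_assoc]

theorem conj_mem (c : ↥suzGroup) (im : List ℕ) (h : ∀ i < 5, c * v i * c⁻¹ = F (im.getD i 0)) :
    c ∈ Subgroup.normalizer (A0 : Set ↥suzGroup) := by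
  have hmap : A0.map (MulAut.conj c).toMonoidHom = A0 := by
    refine Subgroup.eq_of_le_of_card_ge ?_
      (Nat.card_congr (A0.equivMapOfInjective _ (MulEquiv.injective _)).toEquiv).le
    rintro _ ⟨x, ⟨k, -, rfl⟩, rfl⟩
    show c * F k * c⁻¹ ∈ A0
    rw [conj_F c im h]
    exact mem_A0 _
  exact Subgroup.mem_normalizer_iff.2 fun y => by
    conv_rhs => rw [← hmap]
    exact (Subgroup.mem_map_iff_mem (f := (MulAut.conj c).toMonoidHom) (MulEquiv.injective _)).symm

/-- one of the three normalising elements -/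
noncomputable def nH (j : ℕ) : ↥suzGroup := wordVal (wHj j)

theorem nH_conj {j : ℕ} (hj : j < 3) {i : ℕ} (hi : i < 5) : nH j * v i * (nH j)⁻¹ = F ((imJ j).getD i 0) := by
  have h := norm_ok
  simp only [normOK, Bool.and_eq_true, List.all_eq_true, List.mem_range] at h
  rw [← val_wF]
  exact sameW_conj ((h j hj).2 i hi).2

theorem nH_F {j : ℕ} (hj : j < 3) (k : ℕ) : nH j * F k * (nH j)⁻¹ = F (lin (imJ j) k) :=
  conj_F _ _ (fun _ hi => nH_conj hj hi) k

theorem nH_mem {j : ℕ} (hj : j < 3) : nH j ∈ Subgroup.normalizer (A0 : Set ↥suzGroup) :=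
  conj_mem _ _ fun _ hi => nH_conj hj hi

end Cfsg.Agent.SuzThree
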