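import Cfsg.Agent.Lib.SuzThree.Lines
import Cfsg.Agent.Lib.SuzThree.Cent
import Cfsg.Agent.Lib.Golay.Mathieu
import Cfsg.Agent.Lib.SuzLocal.Equiv

/-! The normaliser of the span: kernel, image and the stabiliser of a line. -/

set_option autoImplicit false
set_option maxRecDepth 100000
set_option Elab.async false

namespace Cfsg.Agent.SuzThree

open Cfsg.Agent.RigidGraph.Suz (suzGroup)
open Cfsg.Agent.M11Uniq (Eleven.sig Eleven.tau Eleven.gen Eleven.std)

attribute [local irreducible] SuzOut.wordVal SuzOut.lets RigidGraph.Suz.nodes RigidGraph.Suz.graph RigidGraph.Suz.outer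
  SuzRecog.fixW

/-- a product of letters on the lines -/
def permW (w : List ℕ) : Equiv.Perm (Fin 11) := (w.map fun j => pJ (j % 3)).prod

/-- a product of letters -/
noncomputable def wN (w : List ℕ) : ↥N0 := (w.map fun j => nN ⟨j % 3, Nat.mod_lt _ (by norm_num)⟩).prod

theorem psi_wN (w : List ℕ) : psi (wN w) = permW w := by
  rw [wN, map_list_prod, List.map_map, permW]
  congr 1
  exact List.map_congr_left fun j _ => psi_nN _

theorem pJ_mem (j : ℕ) : pJ j ∈ Eleven.std := by
  rcases j with _ | _ | j <;> exact Subgroup.subset_closure (by simp [pJ])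

theorem permW_mem (w : List ℕ) : permW w ∈ Eleven.std :=
  list_prod_mem fun x hx => by
    obtain ⟨j, -, rfl⟩ := List.mem_map.1 hx
    exact pJ_mem _

theorem trans_ok : ∀ (l : Fin 4) (j : Fin 11), (l : ℕ) ≤ j →
    (∀ i : Fin 11, (i : ℕ) < l → permW ((trans.getD l []).getD j []) i = i) ∧
      permW ((trans.getD l []).getD j []) ⟨l, l.2.trans (by norm_num)⟩ = j := by
  decide +kernel

/-- An element fixing four lines centralises or inverts the span. -/
theorem rigid {x : ↥N0} (h : ∀ i : Fin 11, (i : ℕ) < 4 → psi x i = i) :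
    (∀ i < 5, (x : ↥suzGroup) * v i * (x : ↥suzGroup)⁻¹ = v i) ∨
      ∀ i < 5, (x : ↥suzGroup) * v i * (x : ↥suzGroup)⁻¹ = (v i)⁻¹ := by
  have hs : ∀ i : Fin 11, ∃ s : Bool,
      (x : ↥suzGroup) * F (lineC i) * (x : ↥suzGroup)⁻¹ = F (sgn s (lineC (psi x i))) := fun i =>
    (pi_spec x i).elim (fun e => ⟨false, e⟩) fun e => ⟨true, e.trans (F_neg _).symm⟩
  obtain ⟨s0, e0⟩ := hs 0
  obtain ⟨s1, e1⟩ := hs 1
  obtain ⟨s2, e2⟩ := hs 2
  obtain ⟨s3, e3⟩ := hs 3
  obtain ⟨s4, e4⟩ := hs 4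
  rw [h 0 (by decide)] at e0
  rw [h 1 (by decide)] at e1
  rw [h 2 (by decide)] at e2
  rw [h 3 (by decide)] at e3
  set j := psi x 4
  have hj : ¬ (j : ℕ) < 4 := fun hj => by
    have := (psi x).injective (h j hj)
    rw [this] at hj
    exact absurd hj (by decide)
  set im := imFix s0 s1 s2 s3 s4 j with him
  have hv : ∀ i : Fin 5, F (lineC i) = v i := fun i => by rw [basis_ok i, F_v i.2]
  have him' : ∀ i < 5, (x : ↥suzGroup) * v i * (x : ↥suzGroup)⁻¹ = F (im.getD i 0) := by
    intro i hi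
    rw [← hv ⟨i, hi⟩]
    interval_cases i
    exacts [e0, e1, e2, e3, e4]
  have hall : ∀ i : Fin 11, isL (lin im (lineC i)) = true := fun i => by
    simp only [isL, List.any_eq_true, List.mem_range, Bool.or_eq_true, Nat.beq_eq]
    refine ⟨_, (psi x i).2, ?_⟩
    obtain ⟨s, e⟩ := hs i
    rw [conj_F _ im him'] at e
    cases s
    · exact Or.inl (F_inj (cod_lt _ _ _ _ _) (lines_ok _ i).1 e)
    · exact Or.inr (F_inj (cod_lt _ _ _ _ _) (lines_ok _ i).2.2.1 e)
  have hb : ∀ b : Bool, b ∈ [false, true] := fun b => by cases b <;> simp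
  have hr := rigid_ok
  simp only [List.all_eq_true] at hr
  have hr' := hr s0 (hb _) s1 (hb _) s2 (hb _) s3 (hb _) s4 (hb _) j (List.mem_range.2 j.2)
  have hA : (List.range 11).all (fun i => isL (lin im (lineC i))) = true :=
    List.all_eq_true.2 fun i hi => hall ⟨i, List.mem_range.1 hi⟩
  simp only [← him] at hr'
  rw [hA] at hr'
  simp only [Bool.not_true, Bool.or_false, Bool.or_eq_true, Nat.blt_eq, beq_iff_eq] at hr'
  rcases hr' with (hr' | hr') | hr'
  · exact absurd hr' hj
  · refine Or.inl fun i hi => ?_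
    rw [him' i hi, hr', ← hv ⟨i, hi⟩]
    congr 1
    interval_cases i <;> rfl
  · refine Or.inr fun i hi => ?_
    rw [him' i hi, hr', ← hv ⟨i, hi⟩, ← F_neg]
    congr 1
    interval_cases i <;> rfl

theorem psi_one_of_fix {x : ↥N0} (h : ∀ i : Fin 11, (i : ℕ) < 4 → psi x i = i) : psi x = 1 := by
  refine Equiv.ext fun i => pi_eq ?_
  have key : (∀ i < 5, (x : ↥suzGroup) * v i * (x : ↥suzGroup)⁻¹ = v i) := by
    refine (rigid h).resolve_right fun hi => ?_
    exact not_inverting _ hi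
  refine Or.inl ?_
  show (x : ↥suzGroup) * F (lineC i) * (x : ↥suzGroup)⁻¹ = F (lineC i)
  have e : ∀ a b : ↥suzGroup, (x : ↥suzGroup) * (a * b) * (x : ↥suzGroup)⁻¹ =
      (x : ↥suzGroup) * a * (x : ↥suzGroup)⁻¹ * ((x : ↥suzGroup) * b * (x : ↥suzGroup)⁻¹) := fun a b => by group
  simp only [F, prodV, e, ← conj_pow, key 0 (by norm_num), key 1 (by norm_num), key 2 (by norm_num),
    key 3 (by norm_num), key 4 (by norm_num)]

theorem psi_range : psi.range = Eleven.std := by
  refine le_antisymm ?_ ?_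
  · rintro _ ⟨n, rfl⟩
    have key : ∀ l ≤ 4, ∃ m : ↥N0, psi m ∈ Eleven.std ∧ ∀ i : Fin 11, (i : ℕ) < l → psi (m⁻¹ * n) i = i := by
      intro l
      induction l with
      | zero => exact fun _ => ⟨1, by rw [map_one]; exact one_mem _, fun i hi => absurd hi (Nat.not_lt_zero _)⟩
      | succ l ih =>
        intro hl
        obtain ⟨m, hm, hfix⟩ := ih (by omega)
        set lf : Fin 11 := ⟨l, by omega⟩
        set j := psi (m⁻¹ * n) lf with hj
        have hle : l ≤ (j : ℕ) := by
          by_contra hlt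
          have h2 : lf = j := ((psi (m⁻¹ * n)).injective (hfix j (by omega))).symm
          have h3 : (lf : ℕ) = j := congrArg Fin.val h2
          simp only [lf] at h3
          omega
        obtain ⟨hp, hpl⟩ := trans_ok ⟨l, by omega⟩ j hle
        set w := (trans.getD l []).getD j []
        refine ⟨m * wN w, by rw [map_mul, psi_wN]; exact mul_mem hm (permW_mem w), fun i hi => ?_⟩
        rw [mul_inv_rev, mul_assoc, map_mul, Equiv.Perm.mul_apply, map_inv, psi_wN, Equiv.Perm.inv_eq_iff_eq]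
        rcases Nat.lt_succ_iff_lt_or_eq.1 hi with hi | hi
        · rw [hp i hi, hfix i hi]
        · rw [show i = lf from Fin.ext hi, ← hj]; exact hpl.symm
    obtain ⟨m, hm, hfix⟩ := key 4 le_rfl
    have h1 := psi_one_of_fix hfix
    rw [map_mul, map_inv, inv_mul_eq_one] at h1
    exact h1 ▸ hm
  · rw [Eleven.std, Subgroup.closure_le]
    rintro g (rfl | rfl | rfl)
    exacts [⟨nN 0, psi_nN 0⟩, ⟨nN 1, psi_nN 1⟩, ⟨nN 2, psi_nN 2⟩]

theorem psi_ker : psi.ker = A0.subgroupOf N0 := by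
  ext x
  rw [MonoidHom.mem_ker, Subgroup.mem_subgroupOf]
  constructor
  · intro hx
    have hk := (rigid (x := x) fun i _ => by rw [hx]; rfl).resolve_right (not_inverting _)
    have hc : (x : ↥suzGroup) ∈ Subgroup.centralizer (A0 : Set ↥suzGroup) := by
      intro y hy
      obtain ⟨k, -, rfl⟩ := hy
      have hc' : ∀ i < 5, Commute (x : ↥suzGroup) (v i) := fun i hi => mul_inv_eq_iff_eq_mul.1 (hk i hi)
      simp only [F, prodV]
      exact (((hc' 0 (by norm_num)).pow_right _).mul_right (((hc' 1 (by norm_num)).pow_right _).mul_right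
        (((hc' 2 (by norm_num)).pow_right _).mul_right (((hc' 3 (by norm_num)).pow_right _).mul_right
          ((hc' 4 (by norm_num)).pow_right _))))).eq.symm
    rwa [centralizer_A0] at hc
  · intro hx
    refine Equiv.ext fun i => pi_eq (Or.inl ?_)
    show (x : ↥suzGroup) * F (lineC i) * (x : ↥suzGroup)⁻¹ = _
    rw [A0_comm hx (mem_A0 _), mul_inv_cancel_right]
    rfl

theorem nonempty_std_equiv : Nonempty (↥Eleven.std ≃* ↥Cfsg.Spor.M11) := by
  haveI : IsSimpleGroup ↥Cfsg.Spor.M11 := by rw [Golay.sporM11_eq]; exact Golay.isSimpleGroup_M11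
  haveI : Fintype ↥Cfsg.Spor.M11 := Fintype.ofFinite _
  obtain ⟨b⟩ := M11Uniq.nonempty_mulEquiv_std Golay.card_sporM11
  exact ⟨b.symm⟩

/-- The quotient. -/
theorem quot_N0 : Cfsg.Spor.IsoM11 (↥(Subgroup.normalizer (A0 : Set ↥suzGroup)) ⧸
    A0.subgroupOf (Subgroup.normalizer (A0 : Set ↥suzGroup))) := by
  obtain ⟨b⟩ := nonempty_std_equiv
  haveI : (A0.subgroupOf N0).Normal := by rw [← psi_ker]; infer_instance
  exact ⟨(QuotientGroup.quotientMulEquivOfEq psi_ker.symm).trans
    ((QuotientGroup.quotientKerEquivRange psi).trans ((MulEquiv.subgroupCongr psi_range).trans b))⟩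

theorem card_std : Nat.card ↥Eleven.std = 7920 := by
  obtain ⟨b⟩ := nonempty_std_equiv
  rw [Nat.card_congr b.toEquiv, Golay.card_sporM11]

theorem card_N0 : Nat.card ↥N0 = 243 * 7920 := by
  rw [Subgroup.card_eq_card_quotient_mul_card_subgroup psi.ker,
    Nat.card_congr (QuotientGroup.quotientKerEquivRange psi).toEquiv, psi_range, card_std, psi_ker,
    Nat.card_congr (Subgroup.subgroupOfEquivOfLe (show A0 ≤ N0 from Subgroup.le_normalizer)).toEquiv, card_A0]

theorem v0_facts : orderOf (v 0) = 3 ∧ F (lineC (0 : Fin 11)) = v 0 := by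
  haveI : Fact (Nat.Prime 3) := ⟨by norm_num⟩
  have e : F (lineC (0 : Fin 11)) = v 0 := by
    rw [show ((0 : Fin 11) : ℕ) = ((0 : Fin 5) : ℕ) from rfl, basis_ok 0, F_v (by norm_num)]
    rfl
  refine ⟨orderOf_eq_prime (v_ok (by norm_num)).2 fun h => (lines_ok 0 0).2.1 (F_eq_one (lines_ok 0 0).1 ?_), e⟩
  exact e.trans h

/-- The normaliser of the first line contains a Sylow subgroup. -/
theorem dvd_normalizer_line :
    3 ^ 7 ∣ Nat.card ↥(Subgroup.normalizer (Subgroup.zpowers (v 0) : Set ↥suzGroup)) := by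
  letI : MulAction ↥N0 (Fin 11) := MulAction.compHom (Fin 11) psi
  have horb : MulAction.orbit ↥N0 (0 : Fin 11) = Set.univ := Set.eq_univ_of_forall fun i => by
    refine ⟨(nN 0) ^ (i : ℕ), ?_⟩
    show psi (nN 0 ^ (i : ℕ)) 0 = i
    rw [map_pow, psi_nN]
    show (Eleven.sig ^ (i : ℕ)) 0 = i
    rw [M11Uniq.Eleven.sig_pow, zero_add]
    exact Fin.cast_val_eq_self i
  have hos := Nat.card_congr (MulAction.orbitProdStabilizerEquivGroup ↥N0 (0 : Fin 11))
  rw [Nat.card_prod, Nat.card_coe_set_eq, horb, Set.ncard_univ, Nat.card_fin, card_N0] at hos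
  set L := Subgroup.zpowers (v 0)
  have hle : (MulAction.stabilizer ↥N0 (0 : Fin 11)).map N0.subtype ≤ Subgroup.normalizer (L : Set ↥suzGroup) := by
    rintro _ ⟨x, hx, rfl⟩
    have hx0 : pi x 0 = 0 := hx
    have hs := pi_spec x 0
    rw [hx0] at hs
    unfold Rel at hs
    rw [v0_facts.2] at hs
    have hmap : L.map (MulAut.conj (x : ↥suzGroup)).toMonoidHom = L := by
      refine Subgroup.eq_of_le_of_card_ge ?_
        (Nat.card_congr (L.equivMapOfInjective _ (MulEquiv.injective _)).toEquiv).le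
      rw [MonoidHom.map_zpowers, Subgroup.zpowers_le]
      show (x : ↥suzGroup) * v 0 * (x : ↥suzGroup)⁻¹ ∈ L
      rcases hs with hs | hs <;> rw [hs]
      exacts [Subgroup.mem_zpowers _, inv_mem (Subgroup.mem_zpowers _)]
    refine Subgroup.mem_normalizer_iff.2 fun y => ?_
    conv_rhs => rw [← hmap]
    exact (Subgroup.mem_map_iff_mem (f := (MulAut.conj (x : ↥suzGroup)).toMonoidHom) (MulEquiv.injective _)).symm
  refine Dvd.dvd.trans ?_ (Subgroup.card_dvd_of_le hle)
  rw [Subgroup.card_map_of_injective N0.subtype_injective]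
  exact ⟨80, by omega⟩

end Cfsg.Agent.SuzThree
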