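import Cfsg.Agent.Lib.SuzThree.Elem
import Cfsg.Agent.Lib.M11Uniq.Std

/-! The eleven lines of the span and the permutations of its normaliser on them. -/

set_option autoImplicit false
set_option maxRecDepth 100000
set_option Elab.async false

namespace Cfsg.Agent.SuzThree

open Cfsg.Agent.SuzRecog (fixSet fixW_eq fixSet_conj)
open Cfsg.Agent.RigidGraph.Suz (suzGroup)
open Cfsg.Agent.M11Uniq (Eleven.sig Eleven.tau Eleven.gen Eleven.std)

attribute [local irreducible] SuzRecog.fixW wF SuzOut.wordVal SuzOut.lets RigidGraph.Suz.nodes RigidGraph.Suz.graph RigidGraph.Suz.outer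

/-- a code of a line or its opposite -/
def isL (k : ℕ) : Bool := (List.range 11).any fun i => Nat.beq k (lineC i) || Nat.beq k (negC (lineC i))

/-- the permutation of a letter -/
def pJ : ℕ → Equiv.Perm (Fin 11)
  | 0 => Eleven.sig
  | 1 => Eleven.tau
  | _ => Eleven.gen

/-- a code or its opposite -/
def sgn (b : Bool) (k : ℕ) : ℕ := bif b then negC k else k

/-- a linear map fixing four lines -/
def imFix (s0 s1 s2 s3 s4 : Bool) (j : ℕ) : List ℕ :=
  [sgn s0 (lineC 0), sgn s1 (lineC 1), sgn s2 (lineC 2), sgn s3 (lineC 3), sgn s4 (lineC j)]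

theorem lines_ok : ∀ i j : Fin 11, lineC i < 243 ∧ lineC i ≠ 0 ∧ negC (lineC i) < 243 ∧
    (i ≠ j → lineC i ≠ lineC j ∧ lineC i ≠ negC (lineC j) ∧ negC (lineC i) ≠ negC (lineC j)) := by
  decide +kernel

theorem basis_ok : ∀ i : Fin 5, lineC i = 3 ^ (i : ℕ) := by decide +kernel

theorem letters_ok : ∀ (j : Fin 3) (i : Fin 11), lin (imJ j) (lineC i) = lineC (pJ j i) ∨
    lin (imJ j) (lineC i) = negC (lineC (pJ j i)) := by decide +kernel

theorem lin_neg : ∀ (j : Fin 3) (i : Fin 11), lin (imJ j) (negC (lineC i)) = negC (lin (imJ j) (lineC i)) := by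
  decide +kernel

theorem neg_neg : ∀ i : Fin 11, negC (negC (lineC i)) = lineC i := by decide +kernel

theorem split_ok : ((List.range 243).all fun k => Nat.beq k 0 || isL k ||
    (List.range (uTree.length + 1)).any fun i => Nat.beq (uAt i) k) = true := by decide +kernel

theorem tree_ok : ((List.range uTree.length).all fun i => Nat.ble (uTree.getD i (0, 0, 0)).2.1 i &&
    Nat.blt (uTree.getD i (0, 0, 0)).2.2 3 &&
    Nat.beq (lin (imJ (uTree.getD i (0, 0, 0)).2.2) (uAt (uTree.getD i (0, 0, 0)).2.1)) (uTree.getD i (0, 0, 0)).1) =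
    true := by decide +kernel

theorem rigid_ok : ([false, true].all fun s0 => [false, true].all fun s1 => [false, true].all fun s2 =>
    [false, true].all fun s3 => [false, true].all fun s4 => (List.range 11).all fun j => Nat.blt j 4 ||
    !((List.range 11).all fun i => isL (lin (imFix s0 s1 s2 s3 s4 j) (lineC i))) ||
      imFix s0 s1 s2 s3 s4 j == imFix false false false false false 4 ||
      imFix s0 s1 s2 s3 s4 j == imFix true true true true true 4) = true := by decide +kernel

/-- the number of fixed points -/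
noncomputable def nf (k : ℕ) : ℕ := (fixSet (F k)).ncard

theorem nf_neg (k : ℕ) : nf (negC k) = nf k := by
  rw [nf, nf, F_neg]
  congr 1
  ext p
  simp only [fixSet, Set.mem_ofPred_eq, Subgroup.coe_inv, Equiv.Perm.inv_eq_iff_eq]
  exact eq_comm

theorem nf_letter {j : ℕ} (hj : j < 3) (k : ℕ) : nf (lin (imJ j) k) = nf k := by
  rw [nf, nf, ← nH_F hj, fixSet_conj]

theorem nf_first : nf (lineC 0) = 162 ∧ nf uRep ≠ 162 := by
  have h := fix_ok
  simp only [fixOK, Bool.and_eq_true, Nat.beq_eq, Bool.not_eq_true'] at h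
  refine ⟨?_, fun e => ?_⟩
  · rw [nf, ← val_wF, fixW_eq (okWord_wF _)]; exact h.1
  · rw [nf, ← val_wF, fixW_eq (okWord_wF _)] at e
    exact Bool.false_ne_true (h.2.symm.trans (Nat.beq_eq.mpr e))

theorem nf_line (i : Fin 11) : nf (lineC i) = 162 := by
  induction i using Fin.induction with
  | zero => exact nf_first.1
  | succ i ih =>
    have e : pJ 0 i.castSucc = i.succ := by
      show i.castSucc + 1 = i.succ
      exact Fin.coeSucc_eq_succ
    rw [← ih, ← nf_letter (j := 0) (by norm_num) (lineC i.castSucc)]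
    rcases letters_ok 0 i.castSucc with h | h
    · rw [show ((0 : Fin 3) : ℕ) = 0 from rfl, e] at h; rw [h]
    · rw [show ((0 : Fin 3) : ℕ) = 0 from rfl, e] at h; rw [h, nf_neg]

theorem nf_out : ∀ i ≤ uTree.length, nf (uAt i) ≠ 162 := by
  intro i
  induction i using Nat.strong_induction_on with
  | _ i ih =>
    intro hi
    rcases i with _ | i
    · exact nf_first.2
    · have h := List.all_eq_true.1 tree_ok i (List.mem_range.2 (by omega))
      simp only [Bool.and_eq_true, Nat.ble_eq, Nat.blt_eq, Nat.beq_eq] at h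
      obtain ⟨⟨hp, hj⟩, he⟩ := h
      rw [show uAt (i + 1) = (uTree.getD i (0, 0, 0)).1 from rfl, ← he, nf_letter hj]
      exact ih _ (by omega) (by omega)

theorem isL_of {k : ℕ} (h : k < 243) (hk : k ≠ 0) (hf : nf k = 162) : ∃ i : Fin 11, k = lineC i ∨ k = negC (lineC i) := by
  have h1 := List.all_eq_true.1 split_ok k (List.mem_range.2 h)
  simp only [isL, Bool.or_eq_true, Nat.beq_eq, List.any_eq_true, List.mem_range] at h1
  rcases h1 with (h1 | ⟨i, hi, h1⟩) | ⟨i, hi, h1⟩
  · exact absurd h1 hk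
  · exact ⟨⟨i, hi⟩, h1⟩
  · exact absurd (h1 ▸ hf) (nf_out i (by omega))

/-- The normaliser of the span. -/
noncomputable def N0 : Subgroup ↥suzGroup := Subgroup.normalizer (A0 : Set ↥suzGroup)

/-- a line goes to another -/
def Rel (n : ↥suzGroup) (i j : Fin 11) : Prop :=
  n * F (lineC i) * n⁻¹ = F (lineC j) ∨ n * F (lineC i) * n⁻¹ = (F (lineC j))⁻¹

theorem rel_exists (n : ↥N0) (i : Fin 11) : ∃ j, Rel n i j := by
  obtain ⟨k, hk, e⟩ := (Subgroup.mem_normalizer_iff.1 n.2 (F (lineC i))).1 (mem_A0 _)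
  have h0 : k ≠ 0 := fun h => by
    rw [h, F_zero, conj_eq_one_iff] at e
    exact (lines_ok i i).2.1 (F_eq_one (lines_ok i i).1 e)
  have hf : nf k = 162 := by
    rw [nf, ← e, fixSet_conj]
    exact nf_line i
  obtain ⟨j, hj⟩ := isL_of hk h0 hf
  refine ⟨j, hj.imp (fun h => e.trans (by rw [h])) fun h => e.trans ?_⟩
  rw [h, F_neg]

theorem rel_unique {n : ↥suzGroup} {i j j' : Fin 11} (h : Rel n i j) (h' : Rel n i j') : j = j' := by
  by_contra hne
  obtain ⟨h1, -, h3, hd⟩ := lines_ok j j'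
  obtain ⟨h1', -, h3', hd'⟩ := lines_ok j' j
  obtain ⟨d1, d2, d3⟩ := hd hne
  unfold Rel at h h'
  simp only [← F_neg] at h h'
  rcases h with h | h <;> rcases h' with h' | h' <;> rw [h] at h'
  · exact d1 (F_inj h1 h1' h')
  · exact d2 (F_inj h1 h3' h')
  · exact (hd' (Ne.symm hne)).2.1 (F_inj h1' h3 h'.symm)
  · exact d3 (F_inj h3 h3' h')

theorem rel_mul {m n : ↥suzGroup} {i j k : Fin 11} (h : Rel n i j) (h' : Rel m j k) : Rel (m * n) i k := by
  have e : m * n * F (lineC i) * (m * n)⁻¹ = m * (n * F (lineC i) * n⁻¹) * m⁻¹ := by group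
  have inv : ∀ x : ↥suzGroup, m * x⁻¹ * m⁻¹ = (m * x * m⁻¹)⁻¹ := fun x => by group
  unfold Rel
  rw [e]
  rcases h with h | h <;> rcases h' with h' | h' <;> rw [h]
  · exact Or.inl h'
  · exact Or.inr h'
  · rw [inv, h']; exact Or.inr rfl
  · rw [inv, h', inv_inv]; exact Or.inl rfl

theorem rel_one (i : Fin 11) : Rel 1 i i := Or.inl (by group)

/-- the image of a line -/
noncomputable def pi (n : ↥N0) (i : Fin 11) : Fin 11 := (rel_exists n i).choose

theorem pi_spec (n : ↥N0) (i : Fin 11) : Rel n i (pi n i) := (rel_exists n i).choose_spec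

theorem pi_eq {n : ↥N0} {i j : Fin 11} (h : Rel n i j) : pi n i = j := rel_unique (pi_spec n i) h

theorem pi_mul (m n : ↥N0) (i : Fin 11) : pi (m * n) i = pi m (pi n i) :=
  pi_eq (rel_mul (pi_spec n i) (pi_spec m _))

theorem pi_one (i : Fin 11) : pi 1 i = i := pi_eq (rel_one i)

/-- The action on the lines. -/
noncomputable def psi : ↥N0 →* Equiv.Perm (Fin 11) :=
  MonoidHom.mk' (fun n => ⟨pi n, pi n⁻¹, fun i => by rw [← pi_mul, inv_mul_cancel, pi_one],
    fun i => by rw [← pi_mul, mul_inv_cancel, pi_one]⟩) fun m n => Equiv.ext (pi_mul m n)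

/-- a normalising element in the normaliser -/
noncomputable def nN (j : Fin 3) : ↥N0 := ⟨nH j, nH_mem j.2⟩

theorem psi_nN (j : Fin 3) : psi (nN j) = pJ j := by
  refine Equiv.ext fun i => pi_eq ?_
  show Rel (nH j) i _
  unfold Rel
  rw [nH_F j.2]
  exact (letters_ok j i).imp (fun h => by rw [h]) fun h => by rw [h, F_neg]

end Cfsg.Agent.SuzThree
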