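import Cfsg.Agent.Lib.SuzThree.Sylow
import Cfsg.Agent.Lib.SuzLocal.Transfer
import Cfsg.Agent.Lib.SuzRecog.Pull
import Mathlib.GroupTheory.Commutator.Basic

/-! The local subgroup at the prime three in a group of Suzuki sporadic type. -/

set_option autoImplicit false
set_option maxRecDepth 100000
set_option linter.style.haveILetI false

namespace Cfsg.Agent.SuzThree

open Cfsg.Agent.RigidGraph.Suz (suzGroup card_suzGroup)
open scoped commutatorElement
open Cfsg.Agent.SuzRecog (eA centA centA_le eX eX_spec mem_fstar)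

attribute [local irreducible] suzGroup SuzRecog.eA SuzOut.wordVal SuzRecog.el A0 T0

theorem factorization_three : (Nat.card ↥suzGroup).factorization 3 = 7 := by
  rw [card_suzGroup, show 448345497600 = 3 ^ 7 * 205004800 by norm_num,
    Nat.factorization_mul (by norm_num) (by norm_num), Finsupp.add_apply,
    (show Nat.Prime 3 by norm_num).factorization_pow, Finsupp.single_eq_same,
    Nat.factorization_eq_zero_of_not_dvd (by norm_num)]

variable {G : Type*} [Group G] [Finite G] (z : G) (hz : orderOf z = 2)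
  (Q : Subgroup (Subgroup.centralizer ({z} : Set G))) [Q.Normal]
  (hF : Cfsg.generalizedFittingSubgroup (Subgroup.centralizer ({z} : Set G)) = Q)
  (hcard : Nat.card Q = 2 ^ 7)
  (e : (Subgroup.centralizer ({z} : Set G)) ⧸ Q ≃* Cfsg.Omega (ZMod 2) (Cfsg.quadFormMinus 2 (ZMod 2) 1 1))
  (φ : G ≃* ↥suzGroup) (hφ : φ z = eA)

include hcard e in
theorem card_centralizer : Nat.card ↥(Subgroup.centralizer ({z} : Set G)) = 3317760 := by
  rw [Subgroup.card_eq_card_quotient_mul_card_subgroup Q, hcard, Nat.card_congr e.toEquiv]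
  show Nat.card SuzT.Om * _ = _
  rw [SuzT.card_Om]; norm_num

include hz hF hcard e hφ in
/-- A subgroup of order three with small commutator is conjugate into the first line. -/
theorem line_of_small (X : Subgroup (Subgroup.centralizer ({z} : Set G))) (hX : Nat.card X = 3)
    (hQX : Nat.card ↥⁅Q, X⁆ = 8) :
    ∃ g : ↥suzGroup, (X.map (Subgroup.subtype (Subgroup.centralizer ({z} : Set G)))).map
      (φ.trans (MulAut.conj g)).toMonoidHom = Subgroup.zpowers (v 0) := by
  classical
  haveI : Fact (Nat.Prime 3) := ⟨by norm_num⟩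
  set ψ : ↥(Subgroup.centralizer ({z} : Set G))  →* ↥suzGroup := φ.toMonoidHom.comp (Subgroup.centralizer ({z} : Set G)).subtype with hψ
  have hψi : Function.Injective ψ := φ.injective.comp (Subgroup.centralizer ({z} : Set G)).subtype_injective
  have hCr : ∀ s : ↥suzGroup, s * eA = eA * s → ∃ c : ↥(Subgroup.centralizer ({z} : Set G)), ψ c = s := fun s hs =>
    ⟨⟨φ.symm s, Subgroup.mem_centralizer_singleton_iff.2 (φ.injective (by
      rw [map_mul, map_mul, φ.apply_symm_apply, hφ, hs]))⟩, φ.apply_symm_apply s⟩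
  have hψA : ∀ c : ↥(Subgroup.centralizer ({z} : Set G)), ψ c * eA = eA * ψ c := fun c => by
    show φ c * eA = eA * φ c
    rw [← hφ, ← map_mul, ← map_mul, Subgroup.mem_centralizer_singleton_iff.1 c.2]
  set Qm := Q.map ψ
  have hzz : z * z = 1 := by rw [← pow_two, ← hz, pow_orderOf_eq_one]
  obtain ⟨-, -, hxcomm, hxx⟩ := eX_spec
  have h0 : oE 0 ∈ Qm := by
    obtain ⟨x, hx⟩ := hCr eX hxcomm
    refine ⟨x, ?_, hx.trans (show eX = oE 0 by rw [eX, oE])⟩
    rw [SetLike.mem_coe, ← hF]
    refine mem_fstar (z := ⟨z, Subgroup.mem_centralizer_singleton_iff.2 rfl⟩)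
      (Subgroup.mem_center_iff.2 fun c => Subtype.ext (Subgroup.mem_centralizer_singleton_iff.1 c.2))
      (Subtype.ext hzz) fun c => ?_
    have hc : ψ c ∈ centA := by
      have hle : centA ≤ ψ.range := fun s hs => by
        obtain ⟨d, hd⟩ := hCr s (Subgroup.mem_centralizer_singleton_iff.1 (centA_le hs))
        exact ⟨d, hd⟩
      have heq : centA = ψ.range := Subgroup.eq_of_le_of_card_ge hle (by
        rw [← Nat.card_congr (MonoidHom.ofInjective hψi).toEquiv, card_centralizer z Q hcard e]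
        exact SuzRecog.le_card_centA)
      rw [heq]; exact ⟨c, rfl⟩
    rcases hxx (ψ c) hc with h | h
    · left
      refine hψi ?_
      simp only [map_mul, map_inv, map_one, hx]
      exact h
    · right
      refine hψi ?_
      simp only [map_mul, map_inv, hx]
      exact h.trans hφ.symm
  have hN : ∀ c ∈ centA, ∀ q ∈ Qm, c * q * c⁻¹ ∈ Qm := by
    rintro c hc _ ⟨q, hq, rfl⟩
    obtain ⟨d, rfl⟩ := hCr c (Subgroup.mem_centralizer_singleton_iff.1 (centA_le hc))
    exact ⟨d * q * d⁻¹, (inferInstance : Q.Normal).conj_mem q hq d, by simp⟩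
  -- move into the Sylow subgroup
  have hfC : (Nat.card ↥(Subgroup.centralizer ({z} : Set G))).factorization 3 = 4 := by
    rw [card_centralizer z Q hcard e, show 3317760 = 3 ^ 4 * 40960 by norm_num,
      Nat.factorization_mul (by norm_num) (by norm_num), Finsupp.add_apply,
      (show Nat.Prime 3 by norm_num).factorization_pow, Finsupp.single_eq_same,
      Nat.factorization_eq_zero_of_not_dvd (by norm_num)]
  have hTr : T0 ≤ ψ.range := fun s hs => by
    obtain ⟨d, hd⟩ := hCr s (Subgroup.mem_centralizer_singleton_iff.1 (T0_cent hs))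
    exact ⟨d, hd⟩
  let S : Sylow 3 ↥(Subgroup.centralizer ({z} : Set G)) := Sylow.ofCard (T0.comap ψ) (by
    rw [hfC, ← Subgroup.card_map_of_injective hψi, Subgroup.map_comap_eq_self hTr, card_T0]; norm_num)
  obtain ⟨R, hR⟩ := (IsPGroup.of_card (p := 3) (n := 1) (G := ↥X) (by rw [hX, pow_one])).exists_le_sylow
  obtain ⟨c, hc⟩ := MulAction.exists_smul_eq (↥(Subgroup.centralizer ({z} : Set G))) R S
  set X2 := X.map (MulAut.conj c).toMonoidHom with hX2
  have hX2c : Nat.card ↥X2 = 3 := by rw [hX2, Subgroup.card_map_of_injective (MulEquiv.injective _), hX]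
  have hX2T : X2 ≤ T0.comap ψ := (Subgroup.map_mono hR).trans (congrArg Sylow.toSubgroup hc).le
  have hQX2 : Nat.card ↥⁅Q, X2⁆ = 8 := by
    have hQc : Q.map (MulAut.conj c).toMonoidHom = Q := by
      refine Subgroup.eq_of_le_of_card_ge ?_ ?_
      · rintro _ ⟨q, hq, rfl⟩
        exact (inferInstance : Q.Normal).conj_mem q hq c
      · rw [Subgroup.card_map_of_injective (MulEquiv.injective _)]
    rw [hX2, ← hQc, ← Subgroup.map_commutator, Subgroup.card_map_of_injective (MulEquiv.injective _), hQX]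
  obtain ⟨⟨x, hx⟩, hx1⟩ := (Subgroup.ne_bot_iff_exists_ne_one (H := X2)).1 fun h => by
    rw [h, Subgroup.card_bot] at hX2c; omega
  have hx1' : x ≠ 1 := fun h => hx1 (Subtype.ext h)
  have hx3 : x ^ 3 = 1 := by
    have h := pow_card_eq_one' (x := (⟨x, hx⟩ : ↥X2))
    rw [hX2c] at h
    exact congrArg Subtype.val h
  have hgen : X2 = Subgroup.zpowers x := (Subgroup.eq_of_le_of_card_ge (Subgroup.zpowers_le.2 hx) (by
    rw [hX2c, Nat.card_zpowers, orderOf_eq_prime hx3 hx1'])).symm
  rcases cases_spec h0 hN (hX2T hx) (fun h => hx1' (hψi (h.trans ψ.map_one.symm)))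
      (by rw [← map_pow, hx3, map_one]) with ⟨g, hg⟩ | ⟨f, hf, hq⟩
  · refine ⟨g * ψ c, ?_⟩
    have e1 : (φ.trans (MulAut.conj (g * ψ c))).toMonoidHom.comp (Subgroup.centralizer ({z} : Set G)).subtype =
        (MulAut.conj g).toMonoidHom.comp (ψ.comp (MulAut.conj c).toMonoidHom) := by
      refine MonoidHom.ext fun y => ?_
      show g * ψ c * φ y * (g * ψ c)⁻¹ = g * ψ (c * y * c⁻¹) * g⁻¹
      rw [map_mul, map_mul, map_inv, show φ (y : G) = ψ y from rfl]
      group
    rw [Subgroup.map_map, e1, ← Subgroup.map_map, ← Subgroup.map_map, ← hX2, hgen, MonoidHom.map_zpowers,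
      MonoidHom.map_zpowers]
    exact congrArg Subgroup.zpowers hg
  · exfalso
    have hmem : ∀ i, ∃ y ∈ ⁅Q, X2⁆, ψ y = f i := fun i => by
      obtain ⟨q, ⟨q', hq', rfl⟩, he⟩ := hq i
      refine ⟨⁅q', x⁆, Subgroup.commutator_mem_commutator hq' hx, ?_⟩
      rw [he, commutatorElement_def, map_mul, map_mul, map_mul, map_inv, map_inv]
    choose y hy hye using hmem
    have h9 := Nat.card_le_card_of_injective (fun i : Fin 9 => (⟨y i, hy i⟩ : ↥⁅Q, X2⁆)) fun a b hab =>
      hf (by
        have e' : y a = y b := congrArg Subtype.val hab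
        rw [← hye a, ← hye b, e'])
    rw [hQX2, Nat.card_eq_fintype_card, Fintype.card_fin] at h9
    omega

include φ in
theorem card_G : Nat.card G = 448345497600 := (Nat.card_congr φ.toEquiv).trans card_suzGroup

include hz hF hcard e hφ in
/-- The local subgroup at the prime three. -/
theorem three_local (X : Subgroup (Subgroup.centralizer ({z} : Set G))) (hX : Nat.card X = 3)
    (hQX : Nat.card ↥⁅Q, X⁆ = 8)
    (P : Sylow 3 ↥(Subgroup.normalizer ((X.map (Subgroup.subtype (Subgroup.centralizer ({z} : Set G))) : Subgroup G) : Set G))) :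
    let P' := (P : Subgroup ↥(Subgroup.normalizer ((X.map (Subgroup.subtype (Subgroup.centralizer ({z} : Set G))) : Subgroup G) : Set G))).map (Subgroup.subtype (Subgroup.normalizer ((X.map (Subgroup.subtype (Subgroup.centralizer ({z} : Set G))) : Subgroup G) : Set G)))
    ¬ 3 ∣ P'.index ∧ ∃ A : Subgroup G, A ≤ P' ∧ Cfsg.IsElementaryAbelian 3 A ∧ Nat.card A = 3 ^ 5 ∧
      Subgroup.centralizer (A : Set G) = A ∧ ∃ _ : (A.subgroupOf (Subgroup.normalizer (A : Set G))).Normal,
        Cfsg.Spor.IsoM11 (↥(Subgroup.normalizer (A : Set G)) ⧸ A.subgroupOf (Subgroup.normalizer (A : Set G))) := by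
  intro P'
  haveI : Fact (Nat.Prime 3) := ⟨by norm_num⟩
  obtain ⟨g, hg⟩ := line_of_small z hz Q hF hcard e φ hφ X hX hQX
  have hdvd : 3 ^ 7 ∣ Nat.card ↥(Subgroup.normalizer ((X.map (Subgroup.subtype (Subgroup.centralizer ({z} : Set G))) : Subgroup G) : Set G)) := by
    have h := dvd_normalizer_line
    rw [← hg, SuzLocal.card_normalizer_map] at h
    exact h
  have hfG : (Nat.card G).factorization 3 = 7 := by rw [Nat.card_congr φ.toEquiv]; exact factorization_three
  have hP : Nat.card ↥P' = 3 ^ 7 := by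
    have hc : Nat.card ↥P' = Nat.card ↥(P : Subgroup ↥(Subgroup.normalizer ((X.map (Subgroup.subtype (Subgroup.centralizer ({z} : Set G))) : Subgroup G) : Set G))) :=
      Subgroup.card_map_of_injective
        (f := (Subgroup.normalizer ((X.map (Subgroup.subtype (Subgroup.centralizer ({z} : Set G))) : Subgroup G) : Set G)).subtype) (Subgroup.subtype_injective _)
    rw [hc, Sylow.card_eq_multiplicity]
    congr 1
    refine le_antisymm ?_ (((Nat.Prime.pow_dvd_iff_le_factorization (by norm_num) Nat.card_pos.ne').1 hdvd))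
    exact hfG ▸ (Nat.factorization_le_iff_dvd Nat.card_pos.ne' Nat.card_pos.ne').2
      (Subgroup.card_subgroup_dvd_card _) 3
  refine ⟨fun h => ?_, ?_⟩
  · obtain ⟨k, hk⟩ := h
    have hi := Subgroup.card_mul_index P'
    rw [hP, hk, card_G φ] at hi
    omega
  let S' : Sylow 3 G := Sylow.ofCard P' (by rw [hfG, hP])
  set A1 := A0.map φ.symm.toMonoidHom with hA1
  have hA1c : Nat.card ↥A1 = 243 := by
    rw [hA1, Subgroup.card_map_of_injective φ.symm.injective, card_A0]
  obtain ⟨S1, hS1⟩ := (IsPGroup.of_card (p := 3) (n := 5) (G := ↥A1) (by rw [hA1c]; norm_num)).exists_le_sylow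
  obtain ⟨d, hd⟩ := MulAction.exists_smul_eq G S1 S'
  set θ : ↥suzGroup ≃* G := φ.symm.trans (MulAut.conj d)
  set A := A0.map θ.toMonoidHom with hA
  have hAe : A = A1.map (MulAut.conj d).toMonoidHom := by rw [hA, hA1, Subgroup.map_map]; rfl
  refine ⟨A, ?_, ⟨⟨⟨fun a b => ?_⟩⟩, ?_⟩, ?_, ?_, Subgroup.normal_in_normalizer, ?_⟩
  · rw [hAe]
    exact (Subgroup.map_mono hS1).trans (congrArg Sylow.toSubgroup hd).le
  · obtain ⟨a, ha⟩ := a
    obtain ⟨b, hb⟩ := b
    obtain ⟨a', ha', rfl⟩ := ha
    obtain ⟨b', hb', rfl⟩ := hb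
    refine Subtype.ext ?_
    show θ a' * θ b' = θ b' * θ a'
    rw [← map_mul, ← map_mul, A0_comm ha' hb']
  · rintro _ ⟨a', ha', rfl⟩
    show θ a' ^ 3 = 1
    rw [← map_pow, A0_cube ha', map_one]
  · rw [hA, Subgroup.card_map_of_injective θ.injective, card_A0]; norm_num
  · rw [hA, ← SuzLocal.map_centralizer_equiv, centralizer_A0]
  · obtain ⟨m⟩ := quot_N0
    exact ⟨(SuzLocal.quotEquiv θ A0).symm.trans m⟩

end Cfsg.Agent.SuzThree
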