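import Cfsg.Agent.Lib.SuzThree.Group
import Cfsg.Agent.Lib.SuzRecog.ExtraA

/-! A Sylow subgroup of the centraliser of the involution and its elements of order three. -/

set_option autoImplicit false
set_option maxRecDepth 100000
set_option Elab.async false

namespace Cfsg.Agent.SuzThree

open Cfsg.Agent.SuzOut (okWord okWord_mem wordVal wordVal_append eq_one_iff keyOf key_of_eq val_nil)
open Cfsg.Agent.SuzRecog (sameW_spec sameW_conj commW_spec oneW_spec neOneW_spec el eA dW orb54 genA centA wA)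
open Cfsg.Agent.RigidGraph.Suz (suzGroup)

attribute [local irreducible] SuzOut.wordVal SuzOut.lets RigidGraph.Suz.nodes RigidGraph.Suz.graph RigidGraph.Suz.outer

/-- an element of the Sylow subgroup -/
noncomputable def tE (i : ℕ) : ↥suzGroup := wordVal (wT i)

/-- a left multiple -/
def tMul (j i : ℕ) : ℕ := (tTab.getD j []).getD i 0

theorem t_facts : tE 0 = 1 ∧ (∀ i < 81, tE i * eA = eA * tE i) ∧
    (∀ j < 4, tGen.getD j 0 < 81 ∧ ∀ i < 81, tMul j i < 81 ∧ tE (tGen.getD j 0) * tE i = tE (tMul j i)) ∧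
    ∀ i < 81, i = 0 ∨ ∃ j < 4, ∃ k < i, tMul j k = i := by
  have h := t_ok
  simp only [tOK, Bool.and_eq_true, List.all_eq_true, List.mem_range, Bool.or_eq_true, List.any_eq_true,
    Nat.blt_eq, Nat.beq_eq] at h
  obtain ⟨⟨⟨⟨-, h0⟩, hcomm⟩, hmul⟩, hspan⟩ := h
  refine ⟨?_, fun i hi => commW_spec (hcomm i hi), fun j hj => ⟨?_, fun i hi => ⟨(hmul j hj i hi).1, ?_⟩⟩,
    fun i hi => (hspan i hi).2⟩
  · rw [tE, List.isEmpty_iff.1 h0, val_nil]
  · have := (hspan 0 (by norm_num)).1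
    interval_cases j
    exacts [this.1.1.1, this.1.1.2, this.1.2, this.2]
  · rw [tE, tE, tE, ← wordVal_append]
    exact sameW_spec (hmul j hj i hi).2

/-- the Sylow subgroup -/
noncomputable def T0 : Subgroup ↥suzGroup := Subgroup.closure {g | ∃ j < 4, g = tE (tGen.getD j 0)}

theorem mem_T0 {i : ℕ} (hi : i < 81) : tE i ∈ T0 := by
  induction i using Nat.strong_induction_on with
  | _ i ih =>
    rcases (t_facts.2.2.2 i hi) with rfl | ⟨j, hj, k, hk, e⟩
    · rw [t_facts.1]; exact one_mem _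
    · rw [← e, ← ((t_facts.2.2.1 j hj).2 k (hk.trans hi)).2]
      exact mul_mem (Subgroup.subset_closure ⟨j, hj, rfl⟩) (ih k hk (hk.trans hi))

theorem T0_list {x : ↥suzGroup} (hx : x ∈ T0) : ∃ i < 81, x = tE i := by
  have hfin : ∀ g : ↥suzGroup, g ∈ T0 → ∀ i < 81, ∃ k < 81, g * tE i = tE k := by
    intro g hg
    rw [T0, ← Subgroup.mem_toSubmonoid, Subgroup.closure_toSubmonoid_of_finite] at hg
    induction hg using Submonoid.closure_induction with
    | mem y hy =>
      obtain ⟨j, hj, rfl⟩ := hy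
      exact fun i hi => ⟨_, ((t_facts.2.2.1 j hj).2 i hi).1, ((t_facts.2.2.1 j hj).2 i hi).2⟩
    | one => exact fun i hi => ⟨i, hi, one_mul _⟩
    | mul a b _ _ ha hb =>
      intro i hi
      obtain ⟨k, hk, e⟩ := hb i hi
      obtain ⟨m, hm, e'⟩ := ha k hk
      exact ⟨m, hm, by rw [mul_assoc, e, e']⟩
  obtain ⟨k, hk, e⟩ := hfin x hx 0 (by norm_num)
  rw [t_facts.1, mul_one] at e
  exact ⟨k, hk, e⟩

theorem T0_cent : T0 ≤ Subgroup.centralizer ({eA} : Set ↥suzGroup) := fun x hx => by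
  obtain ⟨i, hi, rfl⟩ := T0_list hx
  exact Subgroup.mem_centralizer_singleton_iff.2 (t_facts.2.1 i hi)

theorem tInj_ok : nodupW tEls = true := by decide +kernel

theorem nodup_spec {l : List (List ℕ)} (h : nodupW l = true) :
    ∀ i (hi : i < l.length) j (hj : j < l.length), wordVal l[i] = wordVal l[j] → i = j := by
  simp only [nodupW, Bool.and_eq_true, List.all_eq_true, List.mem_range, Bool.not_eq_true', beq_eq_false_iff_ne,
    List.length_map] at h
  intro i hi j hj e
  have hk := key_of_eq (okWord_mem (h.1 _ (List.getElem_mem hi))) (okWord_mem (h.1 _ (List.getElem_mem hj))) e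
  rcases lt_trichotomy i j with hlt | rfl | hlt
  · refine absurd ?_ (h.2 j hj i hlt)
    rw [List.getD_eq_getElem _ _ (by simpa using hj), List.getD_eq_getElem _ _ (by simpa using hi),
      List.getElem_map, List.getElem_map, hk]
  · rfl
  · refine absurd ?_ (h.2 i hi j hlt)
    rw [List.getD_eq_getElem _ _ (by simpa using hi), List.getD_eq_getElem _ _ (by simpa using hj),
      List.getElem_map, List.getElem_map, hk]

theorem card_T0 : Nat.card ↥T0 = 81 := by
  have hlen : tEls.length = 81 := by decide +kernel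
  have hb : Function.Bijective fun i : Fin 81 => (⟨tE i, mem_T0 i.2⟩ : ↥T0) := by
    refine ⟨fun i j e => Fin.ext ?_, fun ⟨x, hx⟩ => ?_⟩
    · have e' := congrArg Subtype.val e
      simp only [tE, wT] at e'
      rw [List.getD_eq_getElem _ _ (show (i : ℕ) < tEls.length by rw [hlen]; exact i.2),
        List.getD_eq_getElem _ _ (show (j : ℕ) < tEls.length by rw [hlen]; exact j.2)] at e'
      exact nodup_spec tInj_ok _ _ _ _ e'
    · obtain ⟨i, hi, e⟩ := T0_list hx
      exact ⟨⟨i, hi⟩, Subtype.ext e.symm⟩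
  rw [← Nat.card_eq_of_bijective _ hb, Nat.card_eq_fintype_card, Fintype.card_fin]

/-- an element of the orbit -/
noncomputable def oE (x : ℕ) : ↥suzGroup := el (orb54.getD x 0)

theorem oE_mem {Qm : Subgroup ↥suzGroup} (h0 : oE 0 ∈ Qm)
    (hN : ∀ c ∈ centA, ∀ q ∈ Qm, c * q * c⁻¹ ∈ Qm) {x : ℕ} (hx : x < orb54.length) : oE x ∈ Qm ∧ oE x * oE x = 1 := by
  have h := q_ok
  simp only [qOK, Bool.and_eq_true, List.all_eq_true, List.mem_range, List.any_eq_true, Nat.beq_eq, Nat.ble_eq,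
    Nat.blt_eq] at h
  obtain ⟨⟨hinv, hcov⟩, htree⟩ := h
  refine ⟨?_, ?_⟩
  · obtain ⟨i, hi, e⟩ := hcov x hx
    subst e
    clear hx
    induction i using Nat.strong_induction_on with
    | _ i ih =>
      rcases i with _ | i
      · exact h0
      · obtain ⟨⟨hp, hg⟩, he⟩ := htree i (by omega)
        have hs := sameW_conj he
        rw [show oE (qAt (i + 1)) = el (orb54.getD (qTree.getD i (0, 0, 0)).1 0) from rfl, el, ← hs]
        refine hN _ (Subgroup.subset_closure ⟨_, ?_, rfl⟩) _ (ih _ (by omega) (by omega))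
        rw [List.getD_eq_getElem _ _ hg]
        exact List.getElem_mem _
  · have hm : orb54.getD x 0 ∈ orb54 := by rw [List.getD_eq_getElem _ _ hx]; exact List.getElem_mem _
    rw [oE, el, ← wordVal_append]
    exact oneW_spec (hinv _ hm)

theorem wQ_spec {Qm : Subgroup ↥suzGroup} (h0 : oE 0 ∈ Qm) (hN : ∀ c ∈ centA, ∀ q ∈ Qm, c * q * c⁻¹ ∈ Qm) :
    ∀ (c : List ℕ), (∀ j ∈ c, j < orb54.length) → wordVal (wQ c) ∈ Qm ∧ wordVal (wQi c) = (wordVal (wQ c))⁻¹ := by
  intro c
  induction c with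
  | nil => intro _; simp [wQ, wQi, val_nil]
  | cons a c ih =>
    intro h
    obtain ⟨h1, h2⟩ := ih fun j hj => h j (List.mem_cons_of_mem _ hj)
    obtain ⟨ha, ha2⟩ := oE_mem h0 hN (h a List.mem_cons_self)
    have e1 : wordVal (wQ (a :: c)) = oE a * wordVal (wQ c) := by
      rw [oE, el, ← wordVal_append]; rfl
    have e2 : wordVal (wQi (a :: c)) = wordVal (wQi c) * oE a := by
      rw [oE, el, ← wordVal_append]
      congr 1
      simp [wQi, List.map_append, List.flatten_append]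
    refine ⟨e1 ▸ mul_mem ha h1, ?_⟩
    rw [e1, e2, h2, mul_inv_rev, inv_eq_of_mul_eq_one_right ha2]

/-- An element of order three in the Sylow subgroup is in the first class or has many commutators. -/
theorem cases_spec {Qm : Subgroup ↥suzGroup} (h0 : oE 0 ∈ Qm) (hN : ∀ c ∈ centA, ∀ q ∈ Qm, c * q * c⁻¹ ∈ Qm)
    {x : ↥suzGroup} (hx : x ∈ T0) (hx1 : x ≠ 1) (hx3 : x ^ 3 = 1) :
    (∃ g : ↥suzGroup, g * x * g⁻¹ = v 0) ∨
      ∃ f : Fin 9 → ↥suzGroup, Function.Injective f ∧ ∀ i, ∃ q ∈ Qm, f i = q * x * q⁻¹ * x⁻¹ := by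
  obtain ⟨i, hi, rfl⟩ := T0_list hx
  have h := cases_ok
  simp only [casesOK, Bool.and_eq_true, List.all_eq_true, List.mem_range, Bool.or_eq_true, List.any_eq_true,
    Nat.beq_eq, Nat.blt_eq] at h
  obtain ⟨⟨hgood, hbad⟩, hall⟩ := h
  rcases hall i hi with ((rfl | ⟨r, hr, rfl⟩) | ⟨r, hr, rfl⟩) | h1
  · exact absurd t_facts.1 hx1
  · refine Or.inl ⟨wordVal r.2, ?_⟩
    exact sameW_conj (hgood r hr).2
  · refine Or.inr ?_
    obtain ⟨⟨hlen, hj⟩, hnd⟩ := hbad r hr
    have hlen' : (r.2.map (wComm r.1)).length = 9 := by rw [List.length_map, hlen]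
    refine ⟨fun k => wordVal ((r.2.map (wComm r.1))[(k : ℕ)]'(hlen'.symm ▸ k.2)),
      fun a b e => Fin.ext (nodup_spec hnd _ _ _ _ e), fun k => ?_⟩
    have hk : (k : ℕ) < r.2.length := hlen.symm ▸ k.2
    obtain ⟨hq, hqi⟩ := wQ_spec h0 hN r.2[(k : ℕ)] fun j hj' => hj _ (List.getElem_mem hk) j hj'
    refine ⟨_, hq, ?_⟩
    show wordVal ((r.2.map (wComm r.1))[(k : ℕ)]) = _
    have hinv : (wordVal (wT r.1))⁻¹ = wordVal (powW (wT r.1) 2) := by
      rw [val_powW, inv_eq_iff_mul_eq_one, ← pow_succ']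
      exact hx3
    rw [List.getElem_map, wComm, wordVal_append, wordVal_append, wordVal_append, hqi, ← hinv, tE]
    simp only [mul_assoc]
  · exact absurd (by rw [val_powW]; exact hx3) (neOneW_spec h1)

end Cfsg.Agent.SuzThree
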